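import Cfsg.Agent.H57.GTwoMult.Mats

/-! Packed `12 × 12` matrices over `ZMod 3`, six bits to an entry. -/

set_option autoImplicit false
set_option maxRecDepth 20000

namespace H57.G24M

/-- The base `64` digit. -/
def fld (X n : ℕ) : ℕ := (X >>> (6 * n)) % 64

/-- The number with given digits. -/
def pk : ℕ → (ℕ → ℕ) → ℕ
  | 0, _ => 0
  | n + 1, f => f 0 + 64 * pk n fun i => f (i + 1)

theorem pk_eq_sum : ∀ (n : ℕ) (f : ℕ → ℕ), pk n f = ∑ i ∈ Finset.range n, f i * 64 ^ i
  | 0, _ => rfl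
  | n + 1, f => by
    rw [pk, pk_eq_sum n, Finset.sum_range_succ', Finset.mul_sum, add_comm]
    simp only [pow_succ, pow_zero, mul_one]
    congr 1
    exact Finset.sum_congr rfl fun i _ => by ring

theorem fld_eq (X n : ℕ) : fld X n = X / 64 ^ n % 64 := by
  rw [fld, Nat.shiftRight_eq_div_pow, pow_mul]
  norm_num

theorem fld_lt (X n : ℕ) : fld X n < 64 := Nat.mod_lt _ (by norm_num)

theorem fld_pk : ∀ {n : ℕ} {f : ℕ → ℕ}, (∀ i < n, f i < 64) → ∀ {m : ℕ}, m < n → fld (pk n f) m = f m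
  | n + 1, f, hf, m, hm => by
    have h0 := hf 0 (by omega)
    rw [fld_eq, pk]
    cases m with
    | zero => rw [pow_zero, Nat.div_one, Nat.add_mul_mod_self_left, Nat.mod_eq_of_lt h0]
    | succ m =>
      rw [pow_succ', ← Nat.div_div_eq_div_mul,
        show (f 0 + 64 * pk n fun i => f (i + 1)) / 64 = pk n fun i => f (i + 1) by omega, ← fld_eq]
      exact fld_pk (n := n) (fun i hi => hf (i + 1) (by omega)) (by omega)

theorem mod_pk : ∀ (n X : ℕ), X % 64 ^ n = pk n (fld X)
  | 0, X => by rw [pow_zero, Nat.mod_one]; rfl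
  | n + 1, X => by
    rw [pk, pow_succ', Nat.mod_mul, mod_pk n]
    have h0 : fld X 0 = X % 64 := by rw [fld_eq, pow_zero, Nat.div_one]
    have h1 : fld (X / 64) = fun i => fld X (i + 1) := funext fun i => by
      rw [fld_eq, fld_eq, pow_succ', Nat.div_div_eq_div_mul]
    rw [h0, h1]

theorem eq_pk {n X : ℕ} (h : X < 64 ^ n) : X = pk n (fld X) := by
  rw [← mod_pk, Nat.mod_eq_of_lt h]

theorem fld_and (X Y n : ℕ) : fld (X &&& Y) n = fld X n &&& fld Y n := by
  simp only [fld, Nat.shiftRight_and_distrib]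
  exact Nat.and_mod_two_pow (n := 6)

theorem fld_xor (X Y n : ℕ) : fld (X ^^^ Y) n = fld X n ^^^ fld Y n := by
  simp only [fld, Nat.shiftRight_xor_distrib]
  exact Nat.xor_mod_two_pow (n := 6)

theorem fld_shift (X k n : ℕ) : fld (X >>> (6 * k)) n = fld X (n + k) := by
  simp only [fld, ← Nat.shiftRight_add]
  congr 2
  ring

theorem mask3_lt : mask3 < 64 ^ 144 := by decide +kernel
theorem mask1_lt : mask1 < 64 ^ 144 := by decide +kernel
theorem colMask_lt : colMask < 64 ^ 144 := by decide +kernel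
theorem fld_masks : ∀ n : Fin 144, fld mask3 n.val = 3 ∧ fld mask1 n.val = 1 ∧
    fld colMask n.val = if n.val % 12 = 0 then 63 else 0 := by
  decide +kernel

/-- Sum of the two-bit parts. -/
def fold2 (X : ℕ) : ℕ := (X &&& mask3) + ((X >>> 2) &&& mask3) + ((X >>> 4) &&& mask3)

/-- Three to zero. -/
def fix3 (T : ℕ) : ℕ := T ^^^ (3 * (T &&& (T >>> 1) &&& mask1))

/-- Reduction modulo three. -/
def red (X : ℕ) : ℕ := fix3 (fold2 (fold2 (fold2 X)))

/-- The sum of the two-bit parts of one digit. -/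
def dFold (x : ℕ) : ℕ := x % 4 + x / 4 % 4 + x / 16 % 4

/-- Three to zero in one digit. -/
def dFix (x : ℕ) : ℕ := x ^^^ (3 * (x % 2 * (x / 2 % 2)))

theorem dig_small : ∀ x : Fin 64, dFold x.val < 10 ∧ (x.val &&& 3) = x.val % 4 ∧
    ((x.val / 4) &&& 3) = x.val / 4 % 4 ∧ ((x.val / 16) &&& 3) = x.val / 16 % 4 ∧
    dFix (dFold (dFold (dFold x.val))) = x.val % 3 := by
  decide +kernel

theorem fld_shift_and (X n k : ℕ) (hk : k = 2 ∨ k = 4) :
    fld (X >>> k) n &&& 3 = fld X n / 2 ^ k &&& 3 := by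
  have e : ∀ y : ℕ, y &&& 3 = y % 4 := fun y => Nat.and_two_pow_sub_one_eq_mod y 2
  rw [e, e, fld, fld, ← Nat.shiftRight_add, Nat.add_comm k, Nat.shiftRight_add]
  generalize X >>> (6 * n) = Z
  rw [Nat.shiftRight_eq_div_pow]
  rcases hk with rfl | rfl <;> norm_num <;> omega

theorem fold2_eq (X : ℕ) : fold2 X = pk 144 fun n => dFold (fld X n) := by
  have h : ∀ Y, Y &&& mask3 = pk 144 fun n => fld Y n &&& 3 := fun Y => by
    conv_lhs => rw [eq_pk (lt_of_le_of_lt Nat.and_le_right mask3_lt) (X := Y &&& mask3)]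
    rw [pk_eq_sum, pk_eq_sum]
    refine Finset.sum_congr rfl fun n hn => ?_
    rw [fld_and, (fld_masks ⟨n, Finset.mem_range.1 hn⟩).1]
  rw [fold2, h, h, h, pk_eq_sum, pk_eq_sum, pk_eq_sum, pk_eq_sum, ← Finset.sum_add_distrib,
    ← Finset.sum_add_distrib]
  refine Finset.sum_congr rfl fun n _ => ?_
  rw [fld_shift_and X n 2 (.inl rfl), fld_shift_and X n 4 (.inr rfl), ← add_mul, ← add_mul]
  obtain ⟨-, h0, h2, h4, -⟩ := dig_small ⟨fld X n, fld_lt X n⟩
  simp only [dFold, show (2 : ℕ) ^ 2 = 4 by norm_num, show (2 : ℕ) ^ 4 = 16 by norm_num] at h0 h2 h4 ⊢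
  rw [h0, h2, h4]

theorem fld_fold2 (X : ℕ) {n : ℕ} (hn : n < 144) : fld (fold2 X) n = dFold (fld X n) := by
  rw [fold2_eq]
  refine fld_pk (fun i _ => ?_) hn
  have := (dig_small ⟨fld X i, fld_lt X i⟩).1
  simp only at this
  omega

theorem fld_fix3 (T : ℕ) {n : ℕ} (hn : n < 144) : fld (fix3 T) n = dFix (fld T n) := by
  have hm := (fld_masks ⟨n, hn⟩).2.1
  have h1 : ∀ y, y &&& 1 = y % 2 := fun y => Nat.and_two_pow_sub_one_eq_mod y 1
  have hw : 3 * (T &&& (T >>> 1) &&& mask1) = pk 144 fun i => 3 * fld (T &&& (T >>> 1) &&& mask1) i := by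
    conv_lhs => rw [eq_pk (lt_of_le_of_lt Nat.and_le_right mask1_lt) (X := T &&& (T >>> 1) &&& mask1)]
    rw [pk_eq_sum, pk_eq_sum, Finset.mul_sum]
    exact Finset.sum_congr rfl fun i _ => by ring
  rw [fix3, fld_xor, hw, fld_pk (fun i hi => ?_) hn, fld_and, hm, fld_and, h1]
  · have e : (fld T n &&& fld (T >>> 1) n) % 2 = fld T n % 2 * (fld T n / 2 % 2) := by
      have hs : fld (T >>> 1) n % 2 = fld T n / 2 % 2 := by
        rw [fld, fld, ← Nat.shiftRight_add, Nat.add_comm 1, Nat.shiftRight_add, Nat.shiftRight_eq_div_pow]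
        omega
      rw [show (fld T n &&& fld (T >>> 1) n) % 2 = fld T n % 2 &&& fld (T >>> 1) n % 2 from
        Nat.and_mod_two_pow (n := 1), hs]
      rcases Nat.mod_two_eq_zero_or_one (fld T n) with a | a <;>
        rcases Nat.mod_two_eq_zero_or_one (fld T n / 2) with b | b <;> simp [a, b]
    rw [e]
    rfl
  · rw [fld_and, (fld_masks ⟨i, hi⟩).2.1, h1]
    omega

theorem fld_red (X : ℕ) {n : ℕ} (hn : n < 144) : fld (red X) n = fld X n % 3 := by
  rw [red, fld_fix3 _ hn, fld_fold2 _ hn, fld_fold2 _ hn, fld_fold2 _ hn]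
  exact (dig_small ⟨fld X n, fld_lt X n⟩).2.2.2.2

/-- A column, spread over the rows. -/
def colP (A k : ℕ) : ℕ := (A >>> (6 * k)) &&& colMask

/-- A row. -/
def rowP (B k : ℕ) : ℕ := (B >>> (6 * (12 * k))) % 4722366482869645213696

/-- The product before reduction. -/
def mulR (A B : ℕ) : ℕ :=
  colP A 0 * rowP B 0 + colP A 1 * rowP B 1 + colP A 2 * rowP B 2 + colP A 3 * rowP B 3 +
  colP A 4 * rowP B 4 + colP A 5 * rowP B 5 + colP A 6 * rowP B 6 + colP A 7 * rowP B 7 +
  colP A 8 * rowP B 8 + colP A 9 * rowP B 9 + colP A 10 * rowP B 10 + colP A 11 * rowP B 11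

/-- The product. -/
def mulT (A B : ℕ) : ℕ := red (mulR (red A) (red B))

theorem mulR_eq_sum (A B : ℕ) : mulR A B = ∑ k ∈ Finset.range 12, colP A k * rowP B k := by
  simp only [Finset.sum_range_succ, Finset.sum_range_zero, zero_add]
  rfl

theorem pk_split (f : ℕ → ℕ) :
    pk 144 f = ∑ i ∈ Finset.range 12, ∑ j ∈ Finset.range 12, f (12 * i + j) * 64 ^ (12 * i + j) := by
  rw [pk_eq_sum]
  generalize hg : (fun n => f n * 64 ^ n) = g
  have hg' : ∀ n, f n * 64 ^ n = g n := fun n => congrFun hg n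
  simp only [hg']
  simp only [Finset.sum_range_succ, Finset.sum_range_zero, zero_add, ← add_assoc]

theorem colP_eq (A : ℕ) {k : ℕ} (hk : k < 12) :
    colP A k = ∑ i ∈ Finset.range 12, fld A (12 * i + k) * 64 ^ (12 * i) := by
  have hX : colP A k < 64 ^ 144 := lt_of_le_of_lt Nat.and_le_right colMask_lt
  rw [eq_pk hX, pk_split]
  refine Finset.sum_congr rfl fun i hi => ?_
  have hi := Finset.mem_range.1 hi
  have hm : ∀ j < 12, fld (colP A k) (12 * i + j) = if j = 0 then fld A (12 * i + k) else 0 := by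
    intro j hj
    rw [colP, fld_and, fld_shift, (fld_masks ⟨12 * i + j, by omega⟩).2.2]
    simp only [show (12 * i + j) % 12 = j by omega]
    split
    · subst_vars
      rw [Nat.and_two_pow_sub_one_eq_mod _ 6, Nat.add_zero]
      exact Nat.mod_eq_of_lt (fld_lt _ _)
    · exact Nat.and_zero _
  rw [Finset.sum_eq_single 0]
  · rw [hm 0 (by norm_num), if_pos rfl, Nat.add_zero]
  · intro j hj hne
    rw [hm j (Finset.mem_range.1 hj), if_neg hne, zero_mul]
  · simp

theorem rowP_eq (B k : ℕ) : rowP B k = ∑ j ∈ Finset.range 12, fld B (12 * k + j) * 64 ^ j := by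
  rw [rowP, show 4722366482869645213696 = 64 ^ 12 by norm_num, mod_pk, pk_eq_sum]
  exact Finset.sum_congr rfl fun j _ => by rw [fld_shift, add_comm]

theorem fld_mulR {A B : ℕ} (hA : ∀ n < 144, fld A n < 3) (hB : ∀ n < 144, fld B n < 3) {i j : ℕ}
    (hi : i < 12) (hj : j < 12) :
    fld (mulR A B) (12 * i + j) = ∑ k ∈ Finset.range 12, fld A (12 * i + k) * fld B (12 * k + j) := by
  let f : ℕ → ℕ := fun n => ∑ k ∈ Finset.range 12, fld A (12 * (n / 12) + k) * fld B (12 * k + n % 12)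
  have hf : ∀ n < 144, f n < 64 := fun n hn => by
    refine lt_of_le_of_lt (Finset.sum_le_card_nsmul _ _ 4 fun k hk => ?_) (by simp)
    have hk := Finset.mem_range.1 hk
    exact Nat.mul_le_mul (Nat.le_of_lt_succ (hA _ (by omega))) (Nat.le_of_lt_succ (hB _ (by omega)))
  have e : mulR A B = pk 144 f := by
    rw [mulR_eq_sum, pk_split, Finset.sum_congr rfl fun k hk => by
      rw [colP_eq A (Finset.mem_range.1 hk), rowP_eq, Finset.sum_mul_sum]]
    rw [Finset.sum_comm]
    refine Finset.sum_congr rfl fun i _ => ?_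
    rw [Finset.sum_comm]
    refine Finset.sum_congr rfl fun j hj => ?_
    have hj := Finset.mem_range.1 hj
    simp only [f, show (12 * i + j) / 12 = i by omega, show (12 * i + j) % 12 = j by omega, Finset.sum_mul,
      pow_add]
    exact Finset.sum_congr rfl fun k _ => by ring
  rw [e, fld_pk hf (by omega)]
  simp only [f, show (12 * i + j) / 12 = i by omega, show (12 * i + j) % 12 = j by omega]

/-- The matrix of a packed matrix. -/
def decT (A : ℕ) : Matrix (Fin 12) (Fin 12) (ZMod 3) :=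
  Matrix.of fun i j => (fld A (12 * i.val + j.val) : ZMod 3)

theorem decT_mul (A B : ℕ) : decT (mulT A B) = decT A * decT B := by
  ext i j
  have hn : 12 * i.val + j.val < 144 := by omega
  have hr : ∀ X, ∀ n < 144, fld (red X) n < 3 := fun X n hn => by
    rw [fld_red X hn]; exact Nat.mod_lt _ (by norm_num)
  rw [Matrix.mul_apply]
  simp only [decT, Matrix.of_apply, mulT]
  rw [fld_red _ hn, ZMod.natCast_mod, fld_mulR (hr A) (hr B) i.2 j.2, Nat.cast_sum, ← Fin.sum_univ_eq_sum_range]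
  refine Finset.sum_congr rfl fun k _ => ?_
  rw [fld_red _ (by omega), fld_red _ (by omega), Nat.cast_mul, ZMod.natCast_mod, ZMod.natCast_mod]

theorem decT_one : decT oneT = 1 := by
  have h : ∀ i j : Fin 12, (fld oneT (12 * i.val + j.val) : ZMod 3) = if i = j then 1 else 0 := by
    decide +kernel
  ext i j
  rw [Matrix.one_apply]
  exact h i j

theorem decT_neg : decT negT = (-1 : ZMod 3) • (1 : Matrix (Fin 12) (Fin 12) (ZMod 3)) := by
  have h : ∀ i j : Fin 12,
      (fld negT (12 * i.val + j.val) : ZMod 3) = -1 * if i = j then 1 else 0 := by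
    decide +kernel
  ext i j
  rw [Matrix.smul_apply, Matrix.one_apply, smul_eq_mul]
  exact h i j

/-- Equality up to sign. -/
def eqvT (L R : ℕ) : Bool := L == R || L == mulT negT R

/-- Equality of matrices up to sign. -/
def Pm (L R : Matrix (Fin 12) (Fin 12) (ZMod 3)) : Prop := ∃ s : ZMod 3, s * s = 1 ∧ L = s • R

theorem eqvT_spec {L R : ℕ} (h : eqvT L R = true) : Pm (decT L) (decT R) := by
  simp only [eqvT, Bool.or_eq_true, beq_iff_eq] at h
  rcases h with rfl | rfl
  · exact ⟨1, one_mul 1, (one_smul _ _).symm⟩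
  · exact ⟨-1, by norm_num, by rw [decT_mul, decT_neg, smul_mul_assoc, one_mul]⟩

/-- The product of a list. -/
def prodT (L : List ℕ) : ℕ := L.foldr mulT oneT

theorem decT_prod : ∀ L : List ℕ, decT (prodT L) = (L.map decT).prod
  | [] => decT_one
  | a :: L => by
    show decT (mulT a (prodT L)) = _
    rw [decT_mul, decT_prod L]
    rfl

end H57.G24M
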