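import Cfsg.Agent.H57.GTwoMult.Check
import Cfsg.Agent.H57.GTwoFour.Main

/-! The certificates read inside `G₂(4)`. -/

set_option autoImplicit false
set_option maxRecDepth 20000

noncomputable section

namespace H57.G24M

open H35.G24 H57.G24J
open scoped commutatorElement

/-- A generator of the subgroup. -/
def hx (k : Fin 5) : ↥HJ := ⟨hG k, Subgroup.subset_closure ⟨k, rfl⟩⟩

/-- A word in the subgroup. -/
def hW (w : List ℕ) : ↥HJ := (w.map fun a => hx (Fin.ofNat 5 a)).prod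

theorem hW_append (u v : List ℕ) : hW (u ++ v) = hW u * hW v := by
  simp [hW]

theorem hW_sub (g : List (List ℕ)) : ∀ w : List ℕ, hW (sub g w) = (w.map fun a => hW (g.getD a [])).prod
  | [] => rfl
  | a :: w => by
    show hW (g.getD a [] ++ sub g w) = _
    rw [hW_append, hW_sub g w]
    rfl

theorem hW_coe : ∀ {w : List ℕ}, below 5 w = true → ((hW w : ↥HJ) : G24) = eW w
  | [], _ => rfl
  | a :: w, h => by
    have h5 := below_lt h a List.mem_cons_self
    show hG (Fin.ofNat 5 a) * (hW w : G24) = sG (Fin.ofNat 6 a) * eW w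
    rw [hW_coe (List.all_eq_true.2 fun b hb => List.all_eq_true.1 h b (List.mem_cons_of_mem _ hb))]
    refine congrArg (fun i => sG i * eW w) ?_
    apply Fin.ext
    show a % 5 = a % 6
    omega

theorem rep_hW {w : List ℕ} (h : below 5 w = true) : rep ((hW w : ↥HJ) : G24) = decM (evP w) := by
  rw [hW_coe h, rep_eW (below_lt (below_mono h))]

theorem hW_eq {u v : List ℕ} (hu : below 5 u = true) (hv : below 5 v = true) (e : evP u = evP v) :
    hW u = hW v :=
  Subtype.ext (rep_injective (by rw [rep_hW hu, rep_hW hv, e]))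

theorem below_append {n : ℕ} {u v : List ℕ} (hu : below n u = true) (hv : below n v = true) :
    below n (u ++ v) = true := by
  simp only [below, List.all_append, Bool.and_eq_true] at hu hv ⊢
  exact ⟨hu, hv⟩

theorem below_sub {g : List (List ℕ)} (hg : ∀ w ∈ g, below 5 w = true) (w : List ℕ) :
    below 5 (sub g w) = true := by
  refine List.all_eq_true.2 fun a ha => ?_
  obtain ⟨b, -, hb⟩ := List.mem_flatMap.1 ha
  rw [List.getD_eq_getElem?_getD] at hb
  cases e : g[b]? with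
  | none => simp [e] at hb
  | some v =>
    simp only [e, Option.getD_some] at hb
    exact List.all_eq_true.1 (hg v (List.mem_of_getElem? e)) a hb

theorem below_get {g : List (List ℕ)} (hg : ∀ w ∈ g, below 5 w = true) (n : ℕ) :
    below 5 (g.getD n []) = true := by
  rw [List.getD_eq_getElem?_getD]
  cases e : g[n]? with
  | none => rfl
  | some v => exact hg v (List.mem_of_getElem? e)

theorem kg_below : ∀ w ∈ kgW, below 5 w = true := fun w hw =>
  List.all_eq_true.1 gens_below w (by simp [hw])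
theorem kp_below : ∀ w ∈ kpW, below 5 w = true := fun w hw =>
  List.all_eq_true.1 gens_below w (by simp [hw])
theorem lg_below : ∀ w ∈ lgW, below 5 w = true := fun w hw =>
  List.all_eq_true.1 gens_below w (by simp [hw])
theorem lz_below : ∀ w ∈ lzW, below 5 w = true := fun w hw =>
  List.all_eq_true.1 gens_below w (by simp [hw])
theorem rt_below : ∀ w ∈ rootW, below 5 w = true := fun w hw =>
  List.all_eq_true.1 gens_below w (by simp [hw])

theorem yW_below : below 5 yW = true := below_get rt_below 3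
theorem r4W_below : below 5 r4W = true := below_get rt_below 4

/-- The outer involution. -/
def bG : G24 := sG 5
/-- The second outer element. -/
def cG : G24 := bG * (hW r4W : G24) * bG
/-- The involution of the braid relation. -/
def yE : ↥HJ := hW yW

theorem bG_sq : bG * bG = 1 := sG_sq 5

theorem rep_bG : rep bG = decM bM := rep_sG 5

theorem rep_cG : rep cG = decM cM := by
  rw [cG, map_mul, map_mul, rep_bG, rep_hW r4W_below, cM, decM_mul, decM_mul]

theorem yE_sq : yE * yE = 1 := by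
  refine Subtype.ext (rep_injective ?_)
  rw [Subgroup.coe_mul, OneMemClass.coe_one, map_mul, map_one, yE, rep_hW yW_below, ← decM_mul, braid_ok.2,
    decM_one]

theorem braidG : bG * (yE : G24) * bG = (yE : G24) * bG * (yE : G24) := by
  refine rep_injective ?_
  simp only [map_mul, yE, rep_hW yW_below, rep_bG, ← decM_mul]
  exact congrArg decM braid_ok.1

theorem not_mem_of_evI {w : List ℕ} (h : evI w 0 ≠ 0) (hw : below 6 w = true) : eW w ∉ HJ := by
  rw [mem_HJ_iff, tau_word]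
  intro e
  apply h
  have := piW_val (below_lt hw) 0
  rw [e] at this
  exact this.symm

theorem bG_notMem : bG ∉ HJ := by
  have : eW [5] = bG := mul_one _
  rw [← this]
  exact not_mem_of_evI outer_ok.1 rfl

theorem cG_notMem : cG ∉ HJ := by
  have : eW (5 :: r4W ++ [5]) = cG := by
    rw [cG, hW_coe r4W_below]
    simp only [eW, List.cons_append, List.map_cons, List.map_append, List.prod_cons, List.prod_append,
      List.map_nil, List.prod_nil, mul_one, mul_assoc]
    rfl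
  rw [← this]
  exact not_mem_of_evI outer_ok.2 (by decide +kernel)

theorem sup_bG : Subgroup.closure (insert bG (HJ : Set G24)) = ⊤ :=
  HJ_coatom.2 _ ⟨fun _ hg => Subgroup.subset_closure (Set.mem_insert_of_mem _ hg),
    fun h => bG_notMem (h (Subgroup.subset_closure (Set.mem_insert _ _)))⟩

/-! ### The two stabilisers -/

/-- A generator of the first stabiliser. -/
def kgE (j : Fin 2) : ↥HJ := hW (kgW.getD j.val [])
/-- Its conjugate. -/
def kpE (j : Fin 2) : ↥HJ := hW (kpW.getD j.val [])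
/-- A generator of the second stabiliser. -/
def lgE (j : Fin 2) : ↥HJ := hW (lgW.getD j.val [])
/-- Its conjugate. -/
def lzE (j : Fin 2) : ↥HJ := hW (lzW.getD j.val [])
/-- The first stabiliser. -/
def Kg : Subgroup ↥HJ := Subgroup.closure (Set.range kgE)
/-- The second stabiliser. -/
def Lg : Subgroup ↥HJ := Subgroup.closure (Set.range lgE)

theorem sub_mem {g : List (List ℕ)} {T : Subgroup ↥HJ} (hg : ∀ n < 2, hW (g.getD n []) ∈ T) {w : List ℕ}
    (hw : below 2 w = true) : hW (sub g w) ∈ T := by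
  rw [hW_sub]
  refine list_prod_mem fun x hx => ?_
  obtain ⟨a, ha, rfl⟩ := List.mem_map.1 hx
  exact hg a (below_lt hw a ha)

theorem kg_mem {w : List ℕ} (hw : below 2 w = true) : hW (sub kgW w) ∈ Kg :=
  sub_mem (fun n hn => Subgroup.subset_closure (Set.mem_range_self (⟨n, hn⟩ : Fin 2))) hw

theorem lg_mem {w : List ℕ} (hw : below 2 w = true) : hW (sub lgW w) ∈ Lg :=
  sub_mem (fun n hn => Subgroup.subset_closure (Set.mem_range_self (⟨n, hn⟩ : Fin 2))) hw

theorem rep_bG_mul {w v : List ℕ} (hw : below 5 w = true) (hv : below 5 v = true)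
    (e : mulP bM (evP w) = mulP (evP v) bM) : bG * (hW w : G24) * bG⁻¹ = hW v := by
  rw [mul_inv_eq_iff_eq_mul]
  exact rep_injective (by rw [map_mul, map_mul, rep_bG, rep_hW hw, rep_hW hv, ← decM_mul, ← decM_mul, e])

theorem rep_cG_mul {w v : List ℕ} (hw : below 5 w = true) (hv : below 5 v = true)
    (e : mulP (evP w) cM = mulP cM (evP v)) : cG⁻¹ * (hW w : G24) * cG⁻¹⁻¹ = hW v := by
  rw [inv_inv, mul_assoc, inv_mul_eq_iff_eq_mul]
  exact rep_injective (by rw [map_mul, map_mul, rep_cG, rep_hW hw, rep_hW hv, ← decM_mul, ← decM_mul, e])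

theorem kgen (j : Fin 2) : bG * (kgE j : G24) * bG⁻¹ = kpE j :=
  rep_bG_mul (below_get kg_below _) (below_get kp_below _) (kgen_ok j)

theorem lgen (j : Fin 2) : cG⁻¹ * (lgE j : G24) * cG⁻¹⁻¹ = lzE j :=
  rep_cG_mul (below_get lg_below _) (below_get lz_below _) (lgen_ok j)

theorem comm_split {g : List (List ℕ)} (hg : ∀ w ∈ g, below 5 w = true) {u ui v vi : List ℕ} {j : ℕ}
    (e1 : evP (sub g u ++ sub g ui) = oneP) (e2 : evP (sub g v ++ sub g vi) = oneP)
    (e3 : evP (sub g u ++ sub g v ++ sub g ui ++ sub g vi) = evP (g.getD j [])) :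
    hW (g.getD j []) = ⁅hW (sub g u), hW (sub g v)⁆ := by
  have hone : ∀ {a : List ℕ}, below 5 a = true → evP a = oneP → hW a = 1 := fun ha e =>
    hW_eq (v := []) ha rfl e
  have b := fun w => below_sub hg w
  have h1 := hone (below_append (b u) (b ui)) e1
  have h2 := hone (below_append (b v) (b vi)) e2
  rw [hW_append] at h1 h2
  rw [← hW_eq (below_append (below_append (below_append (b u) (b v)) (b ui)) (b vi)) (below_get hg j) e3,
    hW_append, hW_append, hW_append, commutatorElement_def, eq_inv_of_mul_eq_one_right h1,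
    eq_inv_of_mul_eq_one_right h2]

theorem kg_comm (j : Fin 2) : ∃ U V U' V' : ↥HJ, kgE j = ⁅U, V⁆ ∧ bG * (U : G24) * bG⁻¹ = U' ∧
    bG * (V : G24) * bG⁻¹ = V' := by
  obtain ⟨u, ui, v, vi, he⟩ : ∃ u ui v vi, kComm.getD j.val ([], [], [], []) = (u, ui, v, vi) :=
    ⟨_, _, _, _, rfl⟩
  have h := commK_ok j
  simp only [commK, he, Bool.and_eq_true, beq_iff_eq] at h
  obtain ⟨⟨⟨⟨⟨-, e1⟩, e2⟩, e3⟩, e4⟩, e5⟩ := h
  exact ⟨hW (sub kgW u), hW (sub kgW v), hW (sub kpW u), hW (sub kpW v), comm_split kg_below e1 e2 e3,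
    rep_bG_mul (below_sub kg_below _) (below_sub kp_below _) e4,
    rep_bG_mul (below_sub kg_below _) (below_sub kp_below _) e5⟩

theorem lg_comm (j : Fin 2) : ∃ U V U' V' : ↥HJ, lgE j = ⁅U, V⁆ ∧ cG⁻¹ * (U : G24) * cG⁻¹⁻¹ = U' ∧
    cG⁻¹ * (V : G24) * cG⁻¹⁻¹ = V' := by
  obtain ⟨u, ui, v, vi, he⟩ : ∃ u ui v vi, lComm.getD j.val ([], [], [], []) = (u, ui, v, vi) :=
    ⟨_, _, _, _, rfl⟩
  have h := commL_ok j
  simp only [commL, he, Bool.and_eq_true, beq_iff_eq] at h
  obtain ⟨⟨⟨⟨⟨-, e1⟩, e2⟩, e3⟩, e4⟩, e5⟩ := h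
  exact ⟨hW (sub lgW u), hW (sub lgW v), hW (sub lzW u), hW (sub lzW v), comm_split lg_below e1 e2 e3,
    rep_cG_mul (below_sub lg_below _) (below_sub lz_below _) e4,
    rep_cG_mul (below_sub lg_below _) (below_sub lz_below _) e5⟩

/-! ### The cosets -/

/-- A word in the first alphabet. -/
def kEw (w : List ℕ) : ↥HJ := (w.map fun a => hW (sub kgW (kExp.getD a []))).prod
/-- A word in the second alphabet. -/
def lEw (w : List ℕ) : ↥HJ := (w.map fun a => hW (sub lgW (lExp.getD a []))).prod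

theorem kEw_mem {w : List ℕ} (hw : below 7 w = true) : kEw w ∈ Kg := by
  refine list_prod_mem fun x hx => ?_
  obtain ⟨a, ha, rfl⟩ := List.mem_map.1 hx
  exact kg_mem (kExp_ok ⟨a, below_lt hw a ha⟩).1

theorem lEw_mem {w : List ℕ} (hw : below 7 w = true) : lEw w ∈ Lg := by
  refine list_prod_mem fun x hx => ?_
  obtain ⟨a, ha, rfl⟩ := List.mem_map.1 hx
  exact lg_mem (lExp_ok ⟨a, below_lt hw a ha⟩).1

theorem rep_kEw : ∀ {w : List ℕ}, (∀ a ∈ w, a < 7) → rep ((kEw w : ↥HJ) : G24) = decM (evK w)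
  | [], _ => (map_one rep).trans decM_one.symm
  | a :: w, h => by
    show rep ((hW (sub kgW (kExp.getD a [])) : G24) * (kEw w : G24)) = decM (mulP (kM a) (evK w))
    rw [map_mul, decM_mul, rep_hW (below_sub kg_below _), rep_kEw fun b hb => h b (List.mem_cons_of_mem _ hb),
      (kExp_ok ⟨a, h a List.mem_cons_self⟩).2]

theorem rep_lEw : ∀ {w : List ℕ}, (∀ a ∈ w, a < 7) → rep ((lEw w : ↥HJ) : G24) = decM (evL w)
  | [], _ => (map_one rep).trans decM_one.symm
  | a :: w, h => by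
    show rep ((hW (sub lgW (lExp.getD a [])) : G24) * (lEw w : G24)) = decM (mulP (lM a) (evL w))
    rw [map_mul, decM_mul, rep_hW (below_sub lg_below _), rep_lEw fun b hb => h b (List.mem_cons_of_mem _ hb),
      (lExp_ok ⟨a, h a List.mem_cons_self⟩).2]

/-- A class root. -/
def rE2 (X : ℕ) : ↥HJ := hW (rootW.getD X [])

theorem rep_rE2 {X : ℕ} (h : X < 6) : rep ((rE2 X : ↥HJ) : G24) = decM (rM X) := by
  rw [rE2, rep_hW (below_get rt_below _), root_ok ⟨X, h⟩]

/-- A representative of a first coset. -/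
def rp1 (x : ℕ) : ↥HJ := kEw (word1 x) * rE2 (cls1 x)

/-- A root of the second cosets. -/
def rt2 (r : ℕ) : ↥HJ := rE2 (w2Roots.getD r (0, [])).1 * kEw (w2Roots.getD r (0, [])).2

/-- A representative of a second coset. -/
def rp2 (x : ℕ) : ↥HJ := kEw (word2 x) * rt2 (root2 x)

theorem rep_rp1 (x : Fin 315) : rep ((rp1 x.val : ↥HJ) : G24) = decM (mat1 x.val) := by
  obtain ⟨hc, hw, he⟩ := w1_ok x
  rw [rp1, Subgroup.coe_mul, map_mul, rep_kEw (below_lt hw), rep_rE2 hc, ← decM_mul, he]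

theorem rep_rp2 (x : Fin 100) : rep ((rp2 x.val : ↥HJ) : G24) = decM (mat2 x.val) := by
  obtain ⟨hc, hw, he⟩ := w2_ok x
  obtain ⟨h1, h2, h3⟩ := r2_ok ⟨root2 x.val, hc⟩
  rw [rp2, rt2, Subgroup.coe_mul, Subgroup.coe_mul, map_mul, map_mul, rep_kEw (below_lt hw),
    rep_rE2 (show _ < 6 by simp only at h1; omega), rep_kEw (below_lt h2), ← decM_mul, ← decM_mul, he]
  simp only at h3
  rw [h3]

theorem hx_closure : Subgroup.closure (Set.range hx) = (⊤ : Subgroup ↥HJ) := by
  refine (Subgroup.map_injective HJ.subtype_injective) ?_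
  rw [MonoidHom.map_closure, ← Set.range_comp, ← MonoidHom.range_eq_map, Subgroup.range_subtype]
  rfl

theorem hx_sq (k : Fin 5) : hx k * hx k = 1 := Subtype.ext (sG_sq _)

theorem cover_gen {T : Subgroup ↥HJ} {n : ℕ} (m : Fin n → ↥HJ) {x0 : Fin n} (h0 : m x0 = 1)
    (step : ∀ k : Fin 5, ∀ x : Fin n, ∃ t : Fin n, ∃ κ ∈ T, hx k * m x = m t * κ) (y : ↥HJ) :
    ∃ x : Fin n, ∃ κ ∈ T, y = m x * κ := by
  have key : ∀ g : ↥HJ, ∀ x, ∃ t : Fin n, ∃ κ ∈ T, g * m x = m t * κ := by
    intro g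
    have hg : g ∈ Subgroup.closure (Set.range hx) := hx_closure ▸ Subgroup.mem_top g
    induction hg using Subgroup.closure_induction'' with
    | mem y hy => obtain ⟨k, rfl⟩ := hy; exact step k
    | inv_mem y hy =>
      obtain ⟨k, rfl⟩ := hy
      rw [inv_eq_of_mul_eq_one_right (hx_sq k)]
      exact step k
    | one => exact fun x => ⟨x, 1, one_mem _, by rw [one_mul, mul_one]⟩
    | mul a b _ _ ha hb =>
      intro x
      obtain ⟨t, κ, hκ, e⟩ := hb x
      obtain ⟨s, κ', hκ', e'⟩ := ha t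
      exact ⟨s, κ' * κ, mul_mem hκ' hκ, by rw [mul_assoc, e, ← mul_assoc, e', mul_assoc]⟩
  obtain ⟨t, κ, hκ, e⟩ := key y x0
  exact ⟨t, κ, hκ, by rwa [h0, mul_one] at e⟩

theorem cover1 (y : ↥HJ) : ∃ x : Fin 315, ∃ κ ∈ Kg, y = rp1 x.val * κ := by
  refine cover_gen (fun x : Fin 315 => rp1 x.val) (x0 := 0)
    (Subtype.ext (rep_injective (by rw [rep_rp1, OneMemClass.coe_one, map_one]; exact w1_zero.1 ▸ decM_one)))
    (fun k x => ?_) y
  obtain ⟨ht, hw, he⟩ := e1_ok k x
  refine ⟨⟨_, ht⟩, kEw (corr1 k.val x.val), kEw_mem hw, Subtype.ext (rep_injective ?_)⟩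
  rw [Subgroup.coe_mul, Subgroup.coe_mul, map_mul, map_mul, rep_rp1, rep_rp1, rep_kEw (below_lt hw),
    show rep ((hx k : ↥HJ) : G24) = decM (gM k.val) from rep_sG k.castSucc, ← decM_mul, ← decM_mul]
  exact congrArg decM he

theorem cover2 (y : ↥HJ) : ∃ x : Fin 100, ∃ κ ∈ Lg, y = rp2 x.val * κ := by
  refine cover_gen (fun x : Fin 100 => rp2 x.val) (x0 := 0)
    (Subtype.ext (rep_injective (by rw [rep_rp2, OneMemClass.coe_one, map_one]; exact w1_zero.2 ▸ decM_one)))
    (fun k x => ?_) y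
  obtain ⟨ht, hw, he⟩ := e2_ok k x
  refine ⟨⟨_, ht⟩, lEw (corr2 k.val x.val), lEw_mem hw, Subtype.ext (rep_injective ?_)⟩
  rw [Subgroup.coe_mul, Subgroup.coe_mul, map_mul, map_mul, rep_rp2, rep_rp2, rep_lEw (below_lt hw),
    show rep ((hx k : ↥HJ) : G24) = decM (gM k.val) from rep_sG k.castSucc, ← decM_mul, ← decM_mul]
  exact congrArg decM he

theorem chain_spec {n X Zc : ℕ} (h : chainOK n X Zc = true) (hX : X < 6) (hZ : Zc < 6) :
    rE2 X ∈ Lg ∧ ∃ z k1 k2 : ↥HJ, k1 ∈ Kg ∧ k2 ∈ Kg ∧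
      cG⁻¹ * (rE2 X : G24) * cG⁻¹⁻¹ = z ∧ z = k1 * rE2 Zc * k2 := by
  obtain ⟨X', l, z, Zc', k1, k2, he⟩ : ∃ a b c d e f, chain.getD n (0, [], [], 0, [], []) = (a, b, c, d, e, f) :=
    ⟨_, _, _, _, _, _, rfl⟩
  simp only [chainOK, he, Bool.and_eq_true, beq_iff_eq] at h
  obtain ⟨⟨⟨⟨⟨⟨⟨-, hl⟩, hz⟩, hk1⟩, hk2⟩, e1⟩, e2⟩, e3⟩ := h
  refine ⟨?_, hW z, kEw k1, kEw k2, kEw_mem hk1, kEw_mem hk2,
    rep_cG_mul (below_get rt_below _) hz (by rw [root_ok ⟨X, hX⟩]; exact e2), Subtype.ext (rep_injective ?_)⟩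
  · rw [rE2, hW_eq (below_get rt_below _) (below_sub lg_below l) ((root_ok ⟨X, hX⟩).trans e1.symm)]
    exact lg_mem hl
  · rw [Subgroup.coe_mul, Subgroup.coe_mul, map_mul, map_mul, rep_hW hz, rep_kEw (below_lt hk1), rep_rE2 hZ,
      rep_kEw (below_lt hk2), e3, decM_mul, decM_mul, mul_assoc]

end H57.G24M
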