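import Cfsg.Agent.H57.GTwoMult.Arith
import Cfsg.Agent.H57.GTwoMult.Data
import Cfsg.Agent.H57.GTwoFour.Check

/-! Kernel checks of the certificates. -/

set_option autoImplicit false
set_option maxRecDepth 20000

namespace H57.G24M

open H57.G24J (mulP oneP prodP getW unW below evP gM evI piT uWord)

/-- Substitution of words. -/
def sub (g : List (List ℕ)) (w : List ℕ) : List ℕ := w.flatMap fun a => g.getD a []

/-- The word of the involution of the braid relation. -/
def yW : List ℕ := rootW.getD 3 []
/-- The word defining the second double coset. -/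
def r4W : List ℕ := rootW.getD 4 []
/-- A relation of odd length. -/
def oddW : List ℕ := [2, 1, 4, 1, 0, 1, 4, 1, 2, 1, 4, 1, 0, 1, 4, 1, 0]
/-- The outer involution. -/
def bM : ℕ := gM 5
/-- The second outer element. -/
def cM : ℕ := mulP (mulP bM (evP r4W)) bM
/-- The alphabet of the first stabiliser. -/
def kM (a : ℕ) : ℕ := getW 72 kN a
/-- The alphabet of the second stabiliser. -/
def lM (a : ℕ) : ℕ := getW 72 lN a
/-- A class root. -/
def rM (X : ℕ) : ℕ := getW 72 rN X
/-- A root of the second cosets. -/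
def r2M (r : ℕ) : ℕ := getW 72 r2N r
/-- A word in the alphabet. -/
def evK (w : List ℕ) : ℕ := prodP (w.map kM)
/-- A word in the second alphabet. -/
def evL (w : List ℕ) : ℕ := prodP (w.map lM)
/-- The class of a first coset. -/
def cls1 (x : ℕ) : ℕ := getW w1W w1N x % 8
/-- The word of a first coset. -/
def word1 (x : ℕ) : List ℕ := unW (getW w1W w1N x / 8)
/-- A representative of a first coset. -/
def mat1 (x : ℕ) : ℕ := getW 72 w1M x
/-- The target of an edge. -/
def tgt1 (k x : ℕ) : ℕ := getW e1W (e1N.getD k 0) x % 512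
/-- The correction of an edge. -/
def corr1 (k x : ℕ) : List ℕ := unW (getW e1W (e1N.getD k 0) x / 512)
/-- The root of a second coset. -/
def root2 (x : ℕ) : ℕ := getW w2W w2N x % 2
/-- The word of a second coset. -/
def word2 (x : ℕ) : List ℕ := unW (getW w2W w2N x / 2)
/-- A representative of a second coset. -/
def mat2 (x : ℕ) : ℕ := getW 72 w2M x
/-- The target of an edge. -/
def tgt2 (k x : ℕ) : ℕ := getW e2W (e2N.getD k 0) x % 512
/-- The correction of an edge. -/
def corr2 (k x : ℕ) : List ℕ := unW (getW e2W (e2N.getD k 0) x / 512)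

theorem gens_below : (kgW ++ kpW ++ lgW ++ lzW ++ rootW ++ [antiU, antiV, oddW, yW, r4W]).all (below 5) = true := by
  decide +kernel

theorem kgen_ok : ∀ j : Fin 2, mulP bM (evP (kgW.getD j.val [])) = mulP (evP (kpW.getD j.val [])) bM := by
  decide +kernel

theorem lgen_ok : ∀ j : Fin 2, mulP (evP (lgW.getD j.val [])) cM = mulP cM (evP (lzW.getD j.val [])) := by
  decide +kernel

/-- One commutator certificate. -/
def commK (j : ℕ) : Bool :=
  let (u, ui, v, vi) := kComm.getD j ([], [], [], [])
  below 2 u && below 2 ui && below 2 v && below 2 vi &&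
    evP (sub kgW u ++ sub kgW ui) == oneP && evP (sub kgW v ++ sub kgW vi) == oneP &&
    evP (sub kgW u ++ sub kgW v ++ sub kgW ui ++ sub kgW vi) == evP (kgW.getD j []) &&
    mulP bM (evP (sub kgW u)) == mulP (evP (sub kpW u)) bM &&
    mulP bM (evP (sub kgW v)) == mulP (evP (sub kpW v)) bM

/-- One commutator certificate. -/
def commL (j : ℕ) : Bool :=
  let (u, ui, v, vi) := lComm.getD j ([], [], [], [])
  below 2 u && below 2 ui && below 2 v && below 2 vi &&
    evP (sub lgW u ++ sub lgW ui) == oneP && evP (sub lgW v ++ sub lgW vi) == oneP &&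
    evP (sub lgW u ++ sub lgW v ++ sub lgW ui ++ sub lgW vi) == evP (lgW.getD j []) &&
    mulP (evP (sub lgW u)) cM == mulP cM (evP (sub lzW u)) &&
    mulP (evP (sub lgW v)) cM == mulP cM (evP (sub lzW v))

theorem commK_ok : ∀ j : Fin 2, commK j.val = true := by decide +kernel
theorem commL_ok : ∀ j : Fin 2, commL j.val = true := by decide +kernel

theorem kExp_ok : ∀ a : Fin 7, below 2 (kExp.getD a.val []) = true ∧
    evP (sub kgW (kExp.getD a.val [])) = kM a.val := by
  decide +kernel

theorem lExp_ok : ∀ a : Fin 7, below 2 (lExp.getD a.val []) = true ∧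
    evP (sub lgW (lExp.getD a.val [])) = lM a.val := by
  decide +kernel

theorem root_ok : ∀ X : Fin 6, evP (rootW.getD X.val []) = rM X.val := by decide +kernel
theorem root_zero : rootW.getD 0 [] = [] := by decide +kernel

/-- One step of the derivation. -/
def chainOK (n X Zc : ℕ) : Bool :=
  let (X', l, z, Zc', k1, k2) := chain.getD n (0, [], [], 0, [], [])
  X' == X && Zc' == Zc && below 2 l && below 5 z && below 7 k1 && below 7 k2 &&
    evP (sub lgW l) == rM X && mulP (rM X) cM == mulP cM (evP z) &&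
    evP z == mulP (evK k1) (mulP (rM Zc) (evK k2))

theorem chain_ok : chainOK 0 1 3 = true ∧ chainOK 1 2 1 = true ∧ chainOK 2 5 1 = true := by decide +kernel

theorem w1_ok : ∀ x : Fin 315, cls1 x.val < 6 ∧ below 7 (word1 x.val) = true ∧
    mat1 x.val = mulP (evK (word1 x.val)) (rM (cls1 x.val)) := by
  decide +kernel

theorem w1_zero : mat1 0 = oneP ∧ mat2 0 = oneP := by decide +kernel

theorem e1_ok : ∀ k : Fin 5, ∀ x : Fin 315, tgt1 k.val x.val < 315 ∧ below 7 (corr1 k.val x.val) = true ∧
    mulP (gM k.val) (mat1 x.val) = mulP (mat1 (tgt1 k.val x.val)) (evK (corr1 k.val x.val)) := by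
  decide +kernel

theorem r2_ok : ∀ r : Fin 2, (w2Roots.getD r.val (0, [])).1 < 2 ∧
    below 7 (w2Roots.getD r.val (0, [])).2 = true ∧
    r2M r.val = mulP (rM (w2Roots.getD r.val (0, [])).1) (evK (w2Roots.getD r.val (0, [])).2) := by
  decide +kernel

theorem w2_ok : ∀ x : Fin 100, root2 x.val < 2 ∧ below 7 (word2 x.val) = true ∧
    mat2 x.val = mulP (evK (word2 x.val)) (r2M (root2 x.val)) := by
  decide +kernel

theorem e2_ok : ∀ k : Fin 5, ∀ x : Fin 100, tgt2 k.val x.val < 100 ∧ below 7 (corr2 k.val x.val) = true ∧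
    mulP (gM k.val) (mat2 x.val) = mulP (mat2 (tgt2 k.val x.val)) (evL (corr2 k.val x.val)) := by
  decide +kernel

theorem braid_ok : mulP (mulP bM (evP yW)) bM = mulP (mulP (evP yW) bM) (evP yW) ∧
    mulP (evP yW) (evP yW) = oneP := by
  decide +kernel

theorem outer_ok : evI [5] 0 ≠ 0 ∧ evI (5 :: r4W ++ [5]) 0 ≠ 0 := by decide +kernel

theorem odd_ok : evP oddW = oneP ∧ mulP (evP antiU) (evP antiV) = mulP (evP antiV) (evP antiU) := by
  decide +kernel

/-- A reflection in dimension twelve. -/
def xT (k : ℕ) : ℕ := xN.getD k 0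
/-- A reflection in dimension twelve. -/
def uT (i : ℕ) : ℕ := getW 864 uN i
/-- A word in dimension twelve. -/
def evT (w : List ℕ) : ℕ := prodT (w.map xT)
/-- The second outer element in dimension twelve. -/
def cT : ℕ := mulT (mulT bN (evT r4W)) bN

theorem xsq_ok : (∀ k : Fin 5, mulT (xT k.val) (xT k.val) = oneT) ∧ mulT bN bN = oneT := by decide +kernel

theorem uconj_ok : ∀ k : Fin 5, ∀ i : Fin 315,
    eqvT (mulT (xT k.val) (uT i.val)) (mulT (uT (H91.J2T.tabStep k.val i.val)) (xT k.val)) = true := by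
  decide +kernel

theorem xgl_ok : ∀ k : Fin 5, eqvT (uT (H91.J2T.gline.getD k.val 0)) (xT k.val) = true ∧
    eqvT (xT k.val) (evT (uWord (H91.J2T.gline.getD k.val 0))) = true := by
  decide +kernel

theorem xodd_ok : eqvT (evT oddW) oneT = true ∧
    mulT (evT antiU) (evT antiV) = mulT negT (mulT (evT antiV) (evT antiU)) := by
  decide +kernel

theorem xrel_ok : eqvT (mulT (mulT bN (evT yW)) bN) (mulT (mulT (evT yW) bN) (evT yW)) = true ∧
    (∀ j : Fin 2, eqvT (mulT bN (evT (kgW.getD j.val []))) (mulT (evT (kpW.getD j.val [])) bN) = true) ∧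
    (∀ j : Fin 2, eqvT (mulT (evT (lgW.getD j.val [])) cT) (mulT cT (evT (lzW.getD j.val []))) = true) := by
  decide +kernel

end H57.G24M
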