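import Cfsg.Agent.H57.GTwoMult.Basic

/-! A group with the relations of the certificate maps injectively into `G₂(4)`. -/

set_option autoImplicit false
set_option maxRecDepth 20000

noncomputable section

namespace H57.G24M

open H35.G24 H57.G24J
open scoped commutatorElement

/-- A lift of the subgroup and of the outer involution, with the relations. -/
structure Rel (Δ : Type) [Group Δ] where
  eta : ↥HJ →* Δ
  pi : Δ →* G24
  bb : Δ
  pi_eta : ∀ h, pi (eta h) = (h : G24)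
  pi_bb : pi bb = bG
  bb_sq : bb * bb = 1
  braid : bb * eta yE * bb = eta yE * bb * eta yE
  kconj : ∀ j, bb * eta (kgE j) * bb = eta (kpE j)
  lconj : ∀ j, eta (lgE j) * (bb * eta (hW r4W) * bb) = bb * eta (hW r4W) * bb * eta (lzE j)

namespace Rel

variable {Δ : Type} [Group Δ] (R : Rel Δ)

/-- The lift of the second outer element. -/
def cc : Δ := R.bb * R.eta (hW r4W) * R.bb

theorem pi_cc : R.pi R.cc = cG := by rw [cc, map_mul, map_mul, R.pi_bb, R.pi_eta, cG]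

/-- The union of the three double cosets. -/
def S : Set Δ := {d | (∃ h, d = R.eta h) ∨ (∃ h h', d = R.eta h * R.bb * R.eta h') ∨
  ∃ h h', d = R.eta h * R.cc * R.eta h'}

/-- In the first two double cosets. -/
def Near (d : Δ) : Prop := (∃ h, d = R.eta h) ∨ ∃ h h', d = R.eta h * R.bb * R.eta h'

theorem S_left {d : Δ} (hd : d ∈ R.S) (h : ↥HJ) : R.eta h * d ∈ R.S := by
  rcases hd with ⟨a, rfl⟩ | ⟨a, a', rfl⟩ | ⟨a, a', rfl⟩
  · exact .inl ⟨h * a, (map_mul _ _ _).symm⟩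
  · exact .inr (.inl ⟨h * a, a', by rw [map_mul, mul_assoc, mul_assoc, mul_assoc]⟩)
  · exact .inr (.inr ⟨h * a, a', by rw [map_mul, mul_assoc, mul_assoc, mul_assoc]⟩)

theorem S_right {d : Δ} (hd : d ∈ R.S) (h : ↥HJ) : d * R.eta h ∈ R.S := by
  rcases hd with ⟨a, rfl⟩ | ⟨a, a', rfl⟩ | ⟨a, a', rfl⟩
  · exact .inl ⟨a * h, (map_mul _ _ _).symm⟩
  · exact .inr (.inl ⟨a, a' * h, by rw [map_mul, mul_assoc]⟩)
  · exact .inr (.inr ⟨a, a' * h, by rw [map_mul, mul_assoc]⟩)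

theorem near_sandwich {d : Δ} (hd : R.Near d) (h h' : ↥HJ) : R.Near (R.eta h * d * R.eta h') := by
  rcases hd with ⟨a, rfl⟩ | ⟨a, a', rfl⟩
  · exact .inl ⟨h * a * h', by rw [map_mul, map_mul]⟩
  · exact .inr ⟨h * a, a' * h', by simp only [map_mul, mul_assoc]⟩

/-- The elements whose conjugate by the outer involution stays in the subgroup. -/
def bDom : Subgroup ↥HJ where
  carrier := {x | ∃ y, R.bb * R.eta x * R.bb = R.eta y}
  one_mem' := ⟨1, by rw [map_one, mul_one, R.bb_sq]⟩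
  mul_mem' := by
    rintro a b ⟨a', ha⟩ ⟨b', hb⟩
    refine ⟨a' * b', ?_⟩
    rw [map_mul, map_mul, ← ha, ← hb,
      show R.bb * R.eta a * R.bb * (R.bb * R.eta b * R.bb) = R.bb * R.eta a * (R.bb * R.bb) * (R.eta b * R.bb)
        from by group, R.bb_sq]
    group
  inv_mem' := by
    rintro a ⟨a', ha⟩
    refine ⟨a'⁻¹, ?_⟩
    rw [map_inv, map_inv, ← ha, mul_inv_rev, mul_inv_rev, inv_eq_of_mul_eq_one_right R.bb_sq, mul_assoc]

/-- The elements moved past the second outer element. -/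
def cDom : Subgroup ↥HJ where
  carrier := {x | ∃ y, R.eta x * R.cc = R.cc * R.eta y}
  one_mem' := ⟨1, by rw [map_one, one_mul, mul_one]⟩
  mul_mem' := by
    rintro a b ⟨a', ha⟩ ⟨b', hb⟩
    exact ⟨a' * b', by rw [map_mul, map_mul, mul_assoc, hb, ← mul_assoc, ha, mul_assoc]⟩
  inv_mem' := by
    rintro a ⟨a', ha⟩
    refine ⟨a'⁻¹, ?_⟩
    rw [map_inv, map_inv, inv_mul_eq_iff_eq_mul, ← mul_assoc, ha, mul_assoc, mul_inv_cancel, mul_one]

theorem kg_dom : Kg ≤ R.bDom :=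
  (Subgroup.closure_le _).2 (by rintro _ ⟨j, rfl⟩; exact ⟨_, R.kconj j⟩)

theorem lg_dom : Lg ≤ R.cDom :=
  (Subgroup.closure_le _).2 (by rintro _ ⟨j, rfl⟩; exact ⟨_, R.lconj j⟩)

theorem lg_exact {x y : ↥HJ} (hx : x ∈ Lg) (e : cG⁻¹ * (x : G24) * cG⁻¹⁻¹ = y) :
    R.eta x * R.cc = R.cc * R.eta y := by
  obtain ⟨y', hy⟩ := R.lg_dom hx
  have h := congrArg R.pi hy
  rw [map_mul, map_mul, R.pi_eta, R.pi_eta, R.pi_cc] at h
  rw [inv_inv, mul_assoc, h, inv_mul_cancel_left] at e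
  rw [← Subtype.ext e]
  exact hy

/-- The conjugate by the outer involution is in the first two double cosets. -/
def Good (r : ↥HJ) : Prop := R.Near (R.bb * R.eta r * R.bb)

theorem bb_mul3 (a b c : Δ) : R.bb * (a * b * c) * R.bb =
    R.bb * a * R.bb * (R.bb * b * R.bb) * (R.bb * c * R.bb) := by
  rw [show R.bb * a * R.bb * (R.bb * b * R.bb) * (R.bb * c * R.bb) =
    R.bb * a * (R.bb * R.bb) * b * (R.bb * R.bb) * c * R.bb from by group, R.bb_sq]
  group

theorem good_sandwich {k k' r : ↥HJ} (hk : k ∈ Kg) (hk' : k' ∈ Kg) (hr : R.Good r) : R.Good (k * r * k') := by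
  obtain ⟨a, ha⟩ := R.kg_dom hk
  obtain ⟨a', ha'⟩ := R.kg_dom hk'
  show R.Near (R.bb * R.eta (k * r * k') * R.bb)
  rw [map_mul, map_mul, R.bb_mul3, ha, ha']
  exact R.near_sandwich hr a a'

theorem good_chain {n X Zc : ℕ} (h : chainOK n X Zc = true) (hX : X < 6) (hZ : Zc < 6) (hr : R.Good (rE2 Zc)) :
    R.Good (rE2 X) := by
  obtain ⟨hL, z, k1, k2, hk1, hk2, hz, hz'⟩ := chain_spec h hX hZ
  have e := R.lg_exact hL hz
  have hg : R.Good z := hz' ▸ R.good_sandwich hk1 hk2 hr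
  show R.Near (R.bb * R.eta (rE2 X) * R.bb)
  have hb := inv_eq_of_mul_eq_one_right R.bb_sq
  have e2 : R.bb * R.eta (rE2 X) * R.bb = R.eta (hW r4W) * (R.bb * R.eta z * R.bb) * R.eta (hW r4W)⁻¹ := by
    rw [eq_mul_inv_of_mul_eq e, cc, map_inv, mul_inv_rev, mul_inv_rev, hb]
    rw [show R.bb * (R.bb * R.eta (hW r4W) * R.bb * R.eta z * (R.bb * ((R.eta (hW r4W))⁻¹ * R.bb))) * R.bb =
      R.bb * R.bb * R.eta (hW r4W) * (R.bb * R.eta z * R.bb) * (R.eta (hW r4W))⁻¹ * (R.bb * R.bb) from by group,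
      R.bb_sq, one_mul, mul_one]
  rw [e2]
  exact R.near_sandwich hg _ _

theorem good_root {X : ℕ} (hX : X < 6) (h4 : X ≠ 4) : R.Good (rE2 X) := by
  have g0 : R.Good (rE2 0) := by
    left
    refine ⟨1, ?_⟩
    rw [rE2, root_zero, show hW [] = 1 from rfl, map_one, mul_one, R.bb_sq]
  have g3 : R.Good (rE2 3) := .inr ⟨yE, yE, R.braid⟩
  have g1 := R.good_chain chain_ok.1 (by norm_num) (by norm_num) g3
  have g2 := R.good_chain chain_ok.2.1 (by norm_num) (by norm_num) g1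
  have g5 := R.good_chain chain_ok.2.2 (by norm_num) (by norm_num) g1
  interval_cases X
  exacts [g0, g1, g2, g3, absurd rfl h4, g5]

theorem near_mem {d : Δ} (hd : R.Near d) : d ∈ R.S := by
  rcases hd with h | h
  exacts [.inl h, .inr (.inl h)]

theorem claim_b (y : ↥HJ) : R.bb * R.eta y * R.bb ∈ R.S := by
  obtain ⟨x, κ, hκ, rfl⟩ := cover1 y
  obtain ⟨hc, hw, -⟩ := w1_ok x
  have hk := kEw_mem hw
  by_cases h4 : cls1 x.val = 4
  · obtain ⟨a, ha⟩ := R.kg_dom hk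
    obtain ⟨a', ha'⟩ := R.kg_dom hκ
    rw [rp1, map_mul, map_mul, R.bb_mul3, ha, ha', h4]
    exact .inr (.inr ⟨a, a', rfl⟩)
  · exact R.near_mem (R.good_sandwich hk hκ (R.good_root hc h4))

theorem claim_c (y : ↥HJ) : R.bb * (R.eta y * R.cc) ∈ R.S := by
  obtain ⟨x, l, hl, rfl⟩ := cover2 y
  obtain ⟨hc, hw, -⟩ := w2_ok x
  obtain ⟨z, hz⟩ := R.lg_dom hl
  obtain ⟨h1, h2, -⟩ := r2_ok ⟨root2 x.val, hc⟩
  have hg : R.Good (rp2 x.val) := by
    rw [rp2, rt2, ← mul_assoc]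
    exact R.good_sandwich (kEw_mem hw) (kEw_mem h2)
      (R.good_root (show _ < 6 by simp only at h1; omega) (by simp only at h1; omega))
  rw [map_mul, mul_assoc, hz, show R.bb * (R.eta (rp2 x.val) * (R.cc * R.eta z)) =
    R.bb * R.eta (rp2 x.val) * R.bb * R.eta (hW r4W) * R.bb * R.eta z from by rw [cc]; group]
  refine R.S_right ?_ z
  rcases hg with ⟨a, ha⟩ | ⟨a, a', ha⟩ <;> rw [ha]
  · exact .inr (.inl ⟨a * hW r4W, 1, by rw [map_mul, map_one, mul_one]⟩)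
  · rw [show R.eta a * R.bb * R.eta a' * R.eta (hW r4W) * R.bb =
      R.eta a * (R.bb * R.eta (a' * hW r4W) * R.bb) from by rw [map_mul]; group]
    exact R.S_left (R.claim_b _) a

theorem S_bb {d : Δ} (hd : d ∈ R.S) : R.bb * d ∈ R.S := by
  rcases hd with ⟨a, rfl⟩ | ⟨a, a', rfl⟩ | ⟨a, a', rfl⟩
  · exact .inr (.inl ⟨1, a, by rw [map_one, one_mul]⟩)
  · rw [← mul_assoc, ← mul_assoc]
    exact R.S_right (R.claim_b a) a'
  · rw [← mul_assoc]
    exact R.S_right (R.claim_c a) a'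

/-- The subgroup generated by the lifts. -/
def gen : Subgroup Δ := Subgroup.closure (insert R.bb (Set.range R.eta))

theorem gen_sub {d : Δ} (hd : d ∈ R.gen) : d ∈ R.S := by
  suffices ∀ e ∈ R.S, d * e ∈ R.S by
    simpa using this 1 (.inl ⟨1, (map_one _).symm⟩)
  induction hd using Subgroup.closure_induction'' with
  | mem x hx =>
    rcases hx with rfl | ⟨h, rfl⟩
    exacts [fun e he => R.S_bb he, fun e he => R.S_left he h]
  | inv_mem x hx =>
    rcases hx with rfl | ⟨h, rfl⟩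
    · rw [inv_eq_of_mul_eq_one_right R.bb_sq]; exact fun e he => R.S_bb he
    · rw [← map_inv]; exact fun e he => R.S_left he _
  | one => intro e he; rwa [one_mul]
  | mul a b _ _ ha hb => intro e he; rw [mul_assoc]; exact ha _ (hb e he)

theorem eq_one_of_mem {d : Δ} (hd : d ∈ R.gen) (h1 : R.pi d = 1) : d = 1 := by
  rcases R.gen_sub hd with ⟨a, rfl⟩ | ⟨a, a', rfl⟩ | ⟨a, a', rfl⟩
  · rw [R.pi_eta] at h1
    rw [show a = 1 from Subtype.ext h1, map_one]
  · exfalso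
    rw [map_mul, map_mul, R.pi_eta, R.pi_eta, R.pi_bb, mul_eq_one_iff_eq_inv, ← eq_inv_mul_iff_mul_eq] at h1
    exact bG_notMem (h1 ▸ mul_mem (inv_mem a.2) (inv_mem a'.2))
  · exfalso
    rw [map_mul, map_mul, R.pi_eta, R.pi_eta, R.pi_cc, mul_eq_one_iff_eq_inv, ← eq_inv_mul_iff_mul_eq] at h1
    exact cG_notMem (h1 ▸ mul_mem (inv_mem a.2) (inv_mem a'.2))

theorem gen_map : R.gen.map R.pi = ⊤ := by
  rw [gen, MonoidHom.map_closure, Set.image_insert_eq, R.pi_bb, ← Set.range_comp,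
    show (R.pi ∘ R.eta) = (Subtype.val : ↥HJ → G24) from funext R.pi_eta, Subtype.range_val]
  exact sup_bG

end Rel

end H57.G24M
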