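import Cfsg.Agent.H57.GTwoMult.Upper

/-! The double cover of `G₂(4)` in dimension twelve over `ZMod 3`. -/

set_option autoImplicit false
set_option maxRecDepth 20000

noncomputable section

namespace H57.G24M

open H35.G24 H57.G24J Cfsg
open scoped commutatorElement

/-- The matrix ring. -/
abbrev M12 := Matrix (Fin 12) (Fin 12) (ZMod 3)
/-- The linear group. -/
abbrev G12 := M12ˣ

/-- A reflection. -/
def xU (k : Fin 5) : G12 where
  val := decT (xT k.val)
  inv := decT (xT k.val)
  val_inv := by rw [← decT_mul, xsq_ok.1 k, decT_one]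
  inv_val := by rw [← decT_mul, xsq_ok.1 k, decT_one]

/-- The outer involution. -/
def bU : G12 where
  val := decT bN
  inv := decT bN
  val_inv := by rw [← decT_mul, xsq_ok.2, decT_one]
  inv_val := by rw [← decT_mul, xsq_ok.2, decT_one]

/-- A word. -/
def wU (w : List ℕ) : G12 := (w.map fun a => xU (Fin.ofNat 5 a)).prod

theorem wU_val : ∀ {w : List ℕ}, below 5 w = true → ((wU w : G12) : M12) = decT (evT w)
  | [], _ => decT_one.symm
  | a :: w, h => by
    show decT (xT (a % 5)) * (wU w : M12) = decT (mulT (xT a) (evT w))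
    rw [decT_mul, wU_val (List.all_eq_true.2 fun b hb => List.all_eq_true.1 h b (List.mem_cons_of_mem _ hb)),
      Nat.mod_eq_of_lt (below_lt h a List.mem_cons_self)]

theorem sq_one_cases {s : ZMod 3} (h : s * s = 1) : s = 1 ∨ s = -1 := by
  revert s
  decide

theorem unit_cases {u v : G12} (h : Pm (u : M12) (v : M12)) : u = v ∨ u = -v := by
  obtain ⟨s, hs, e⟩ := h
  rcases sq_one_cases hs with rfl | rfl
  · exact .inl (Units.ext (by rw [e, one_smul]))
  · exact .inr (Units.ext (by rw [e, Units.val_neg, neg_one_smul]))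

/-- A generator of the preimage. -/
def pg (k : Fin 5) : G12 × G24 := (xU k, hG k)

/-- The preimage of the subgroup. -/
def PH : Subgroup (G12 × G24) := Subgroup.closure (Set.range pg)

/-- A word in the preimage. -/
def pW (w : List ℕ) : ↥PH :=
  (w.map fun a => (⟨pg (Fin.ofNat 5 a), Subgroup.subset_closure ⟨_, rfl⟩⟩ : ↥PH)).prod

theorem pW_val : ∀ w : List ℕ, ((pW w : ↥PH) : G12 × G24) = (wU w, ((hW w : ↥HJ) : G24))
  | [] => rfl
  | a :: w => by
    show pg (Fin.ofNat 5 a) * (pW w : G12 × G24) = _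
    rw [pW_val w]
    rfl

/-- The central involution. -/
def zz : G12 × G24 := (-1, 1)

theorem neg_one_sq : (-1 : G12) * -1 = 1 := by simp

theorem zz_sq : zz * zz = 1 := Prod.ext neg_one_sq (one_mul 1)

theorem zz_ne : zz ≠ 1 := fun h => by
  have h1 : ((-1 : G12) : M12) 0 0 = ((1 : G12) : M12) 0 0 := by rw [show (-1 : G12) = 1 from congrArg Prod.fst h]
  simp at h1
  exact absurd h1 (by decide)

theorem zz_comm (g : G12 × G24) : g * zz = zz * g := Prod.ext (by simp [zz]) (by simp [zz])

theorem anti_below : below 5 antiU = true ∧ below 5 antiV = true ∧ below 5 oddW = true :=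
  ⟨List.all_eq_true.1 gens_below _ (by simp), List.all_eq_true.1 gens_below _ (by simp),
    List.all_eq_true.1 gens_below _ (by simp)⟩

theorem zz_comm_eq : zz = ⁅((pW antiU : ↥PH) : G12 × G24), ((pW antiV : ↥PH) : G12 × G24)⁆ := by
  obtain ⟨hu, hv, -⟩ := anti_below
  rw [pW_val, pW_val]
  refine Prod.ext ?_ ?_
  · show (-1 : G12) = ⁅wU antiU, wU antiV⁆
    have e : wU antiU * wU antiV = -1 * (wU antiV * wU antiU) := by
      apply Units.ext
      simp only [Units.val_mul, Units.val_neg, Units.val_one, wU_val hu, wU_val hv, ← decT_mul, xodd_ok.2]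
      rw [decT_mul negT, decT_neg, neg_one_smul]
    rw [commutatorElement_def, e]
    group
  · show (1 : G24) = ⁅((hW antiU : ↥HJ) : G24), ((hW antiV : ↥HJ) : G24)⁆
    refine (commutatorElement_eq_one_iff_commute.2 (rep_injective ?_)).symm
    rw [map_mul, map_mul, rep_hW hu, rep_hW hv, ← decM_mul, ← decM_mul, odd_ok.2]

theorem zz_mem : zz ∈ PH := by
  rw [zz_comm_eq, commutatorElement_def]
  exact mul_mem (mul_mem (mul_mem (pW antiU).2 (pW antiV).2) (inv_mem (pW antiU).2)) (inv_mem (pW antiV).2)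

theorem gl_val (k : Fin 5) : (H91.J2A.gl k).val = H91.J2T.gline.getD k.val 0 := rfl

theorem uWord_below (k : Fin 5) : below 5 (uWord (H91.J2T.gline.getD k.val 0)) = true :=
  (uMat_ok (H91.J2A.gl k)).1

theorem hW_uWord (k : Fin 5) : ((hW (uWord (H91.J2T.gline.getD k.val 0)) : ↥HJ) : G24) = hG k := by
  have h := uE_gl k
  rw [uE, gl_val] at h
  rw [hW_coe (uWord_below k), h]

theorem pg_eq_word (k : Fin 5) :
    ∃ c : G12 × G24, (c = 1 ∨ c = zz) ∧ pg k = c * (pW (uWord (H91.J2T.gline.getD k.val 0)) : G12 × G24) := by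
  have hp : Pm ((xU k : G12) : M12) ((wU (uWord (H91.J2T.gline.getD k.val 0)) : G12) : M12) := by
    rw [wU_val (uWord_below k)]
    exact eqvT_spec (xgl_ok k).2
  rw [pW_val]
  rcases unit_cases hp with e | e
  · exact ⟨1, .inl rfl, by rw [one_mul]; exact Prod.ext e (hW_uWord k).symm⟩
  · exact ⟨zz, .inr rfl, Prod.ext (e.trans (neg_one_mul _).symm) ((hW_uWord k).symm.trans (one_mul _).symm)⟩

theorem pW_odd : ((pW oddW : ↥PH) : G12 × G24) = 1 ∨ ((pW oddW : ↥PH) : G12 × G24) = zz := by
  have h24 : ((hW oddW : ↥HJ) : G24) = 1 :=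
    rep_injective (by rw [rep_hW anti_below.2.2, odd_ok.1, decM_one, map_one])
  have hp : Pm ((wU oddW : G12) : M12) ((1 : G12) : M12) := by
    rw [wU_val anti_below.2.2, Units.val_one, ← decT_one]
    exact eqvT_spec xodd_ok.1
  rw [pW_val]
  rcases unit_cases hp with e | e
  · exact .inl (Prod.ext e h24)
  · exact .inr (Prod.ext e h24)

theorem prod_sq {M : Type*} [CommMonoid M] {f : ℕ → M} (h : ∀ a, f a * f a = 1) :
    ∀ w : List ℕ, (w.map f).prod * (w.map f).prod = 1
  | [] => one_mul 1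
  | a :: w => by rw [List.map_cons, List.prod_cons, mul_mul_mul_comm, h, prod_sq h w, one_mul]

theorem prod_const {M : Type*} [Monoid M] {f : ℕ → M} {c : M} (h : ∀ a, f a = c) (w : List ℕ) :
    (w.map f).prod = c ^ w.length := by
  rw [funext h, List.map_const', List.prod_replicate]

theorem uWord_prod {M : Type*} [CommMonoid M] {f : ℕ → M} (h : ∀ a, f a * f a = 1) (i : ℕ) :
    ((uWord i).map f).prod = f 0 := by
  rw [uWord, List.map_append, List.prod_append, List.map_cons, List.prod_cons, List.map_reverse,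
    List.prod_reverse, mul_left_comm, prod_sq h, mul_one]

theorem PH_perfect : commutator ↥PH = ⊤ := by
  let of : ↥PH →* Abelianization ↥PH := Abelianization.of
  let f : ℕ → Abelianization ↥PH := fun a => of ⟨pg (Fin.ofNat 5 a), Subgroup.subset_closure ⟨_, rfl⟩⟩
  have hsq : ∀ a, f a * f a = 1 := fun a => by
    show of _ * of _ = 1
    rw [← map_mul, ← map_one of]
    exact congrArg of (Subtype.ext (Prod.ext (Units.ext (xU (Fin.ofNat 5 a)).val_inv) (sG_sq _)))
  have hw : ∀ w, of (pW w) = (w.map f).prod := fun w => by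
    rw [pW, map_list_prod, List.map_map]; rfl
  have hz : of ⟨zz, zz_mem⟩ = 1 := by
    rw [show (⟨zz, zz_mem⟩ : ↥PH) = ⁅pW antiU, pW antiV⁆ from Subtype.ext zz_comm_eq, map_commutatorElement]
    exact commutatorElement_eq_one_iff_commute.2 (Commute.all _ _)
  have hc : ∀ (c : G12 × G24) (hc : c ∈ PH), c = 1 ∨ c = zz → of ⟨c, hc⟩ = 1 := by
    rintro c hc (rfl | rfl)
    exacts [map_one of, hz]
  have hk : ∀ k : Fin 5, of ⟨pg k, Subgroup.subset_closure ⟨k, rfl⟩⟩ = f 0 := fun k => by
    obtain ⟨c, hc', e⟩ := pg_eq_word k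
    have hcm : c ∈ PH := by
      rcases hc' with rfl | rfl
      exacts [one_mem _, zz_mem]
    rw [show (⟨pg k, Subgroup.subset_closure ⟨k, rfl⟩⟩ : ↥PH) = ⟨c, hcm⟩ * pW _ from Subtype.ext e, map_mul,
      hc c hcm hc', one_mul, hw, uWord_prod hsq]
  have h17 : f 0 ^ 17 = 1 := by
    have := hc _ (pW oddW).2 pW_odd
    rw [show (⟨((pW oddW : ↥PH) : G12 × G24), (pW oddW).2⟩ : ↥PH) = pW oddW from rfl, hw,
      prod_const (fun a => hk (Fin.ofNat 5 a))] at this
    exact this
  have h0 : f 0 = 1 := by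
    rw [show 17 = 2 * 8 + 1 by norm_num, pow_succ, pow_mul, sq, hsq, one_pow, one_mul] at h17
    exact h17
  rw [eq_top_iff, ← Abelianization.ker_of ↥PH]
  have htop : Subgroup.closure (Set.range fun k => (⟨pg k, Subgroup.subset_closure ⟨k, rfl⟩⟩ : ↥PH)) = ⊤ := by
    refine Subgroup.map_injective PH.subtype_injective ?_
    rw [MonoidHom.map_closure, ← Set.range_comp, ← MonoidHom.range_eq_map, Subgroup.range_subtype]
    rfl
  rw [← htop, Subgroup.closure_le]
  rintro _ ⟨k, rfl⟩
  exact MonoidHom.mem_ker.2 ((hk k).trans h0)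

theorem pm_prod {x : M12} {A : ℕ → M12} {s : ℕ → ZMod 3} : ∀ {w : List ℕ},
    (∀ a ∈ w, x * A a = s a • (A a * x)) → x * (w.map A).prod = (w.map s).prod • ((w.map A).prod * x)
  | [], _ => by simp
  | a :: w, h => by
    rw [List.map_cons, List.prod_cons, List.map_cons, List.prod_cons, ← mul_assoc, h a List.mem_cons_self,
      smul_mul_assoc, mul_assoc (A a), pm_prod fun b hb => h b (List.mem_cons_of_mem _ hb), mul_smul_comm,
      smul_smul, mul_assoc]

theorem smul_unit_eq {a : ZMod 3} {u : G12} (h : (u : M12) = a • (u : M12)) : a = 1 := by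
  have := congrArg (fun m => (m * ((u⁻¹ : G12) : M12)) 0 0) h
  simp only [smul_mul_assoc, ← Units.val_mul, mul_inv_cancel, Units.val_one, Matrix.smul_apply,
    Matrix.one_apply_eq, smul_eq_mul, mul_one] at this
  exact this.symm

/-- The reflection with a given number. -/
def U12 (i : Fin 315) : M12 := decT (uT i.val)

theorem pair_spec {p : G12 × G24} (hp : p ∈ PH) : ∀ i, ∃ j, p.2 * uE i * p.2⁻¹ = uE j ∧
    Pm ((p.1 : M12) * U12 i) (U12 j * (p.1 : M12)) := by
  have gen : ∀ k i, ∃ j, (pg k).2 * uE i * (pg k).2⁻¹ = uE j ∧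
      Pm (((pg k).1 : M12) * U12 i) (U12 j * ((pg k).1 : M12)) := by
    intro k i
    refine ⟨H91.J2A.act (H91.J2A.gen k) i, conj_uE k i, ?_⟩
    show Pm (decT (xT k.val) * decT (uT i.val)) (decT (uT _) * decT (xT k.val))
    rw [← decT_mul, ← decT_mul, H91.J2A.act_gen]
    exact eqvT_spec (uconj_ok k i)
  induction hp using Subgroup.closure_induction'' with
  | mem x hx => obtain ⟨k, rfl⟩ := hx; exact gen k
  | inv_mem x hx =>
    obtain ⟨k, rfl⟩ := hx
    rw [inv_eq_of_mul_eq_one_right (show pg k * pg k = 1 from Prod.ext (Units.ext (xU k).val_inv) (sG_sq _))]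
    exact gen k
  | one => exact fun i => ⟨i, by simp, 1, one_mul 1, by simp⟩
  | mul a b _ _ ha hb =>
    intro i
    obtain ⟨j, e, s, hs, h⟩ := hb i
    obtain ⟨l, e', t, ht, h'⟩ := ha j
    refine ⟨l, ?_, s * t, by rw [mul_mul_mul_comm, hs, ht, one_mul], ?_⟩
    · rw [← e', ← e]; simp only [Prod.snd_mul]; group
    · simp only [Prod.fst_mul, Units.val_mul]
      rw [mul_assoc, h, mul_smul_comm, ← mul_assoc, h', smul_mul_assoc, smul_smul, mul_assoc]

theorem ker_central {x : G12} (hx : (x, (1 : G24)) ∈ PH) (k : Fin 5) : x * xU k = xU k * x := by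
  have hp : ∀ i, Pm ((x : M12) * U12 i) (U12 i * (x : M12)) := fun i => by
    obtain ⟨j, e, h⟩ := pair_spec hx i
    rw [one_mul, inv_one, mul_one] at e
    rwa [← uE_injective e] at h
  have hk : ∀ k : Fin 5, Pm ((x : M12) * (xU k : M12)) ((xU k : M12) * (x : M12)) := fun k => by
    obtain ⟨s, hs, e⟩ := hp (H91.J2A.gl k)
    obtain ⟨t, ht, e'⟩ := eqvT_spec (xgl_ok k).1
    have e'' : (xU k : M12) = t • U12 (H91.J2A.gl k) := by
      show decT (xT k.val) = t • decT (uT (H91.J2A.gl k).val)
      rw [gl_val, e', smul_smul, ht, one_smul]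
    refine ⟨s, hs, ?_⟩
    rw [e'', mul_smul_comm, e, smul_mul_assoc, smul_comm]
  choose s hs e using hk
  let A : ℕ → M12 := fun a => (xU (Fin.ofNat 5 a) : M12)
  let S : ℕ → ZMod 3 := fun a => s (Fin.ofNat 5 a)
  have hA : ∀ w : List ℕ, (x : M12) * (w.map A).prod = (w.map S).prod • ((w.map A).prod * (x : M12)) :=
    fun w => pm_prod fun a _ => e _
  have hwA : ∀ w, (w.map A).prod = ((wU w : G12) : M12) := fun w => by
    rw [wU, ← Units.coeHom_apply, map_list_prod, List.map_map]; rfl
  have h0 : ∀ k, (x : M12) * (xU k : M12) = s 0 • ((xU k : M12) * (x : M12)) := by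
    intro k
    obtain ⟨c, hc⟩ : ∃ c : ZMod 3,
        (xU k : M12) = c • ((wU (uWord (H91.J2T.gline.getD k.val 0)) : G12) : M12) := by
      obtain ⟨c, -, e⟩ := eqvT_spec (xgl_ok k).2
      exact ⟨c, e.trans (by rw [wU_val (uWord_below k)])⟩
    rw [hc, mul_smul_comm, ← hwA, hA, uWord_prod (fun a => hs _), smul_mul_assoc, smul_comm]
    rfl
  have h1 : s 0 = 1 := by
    obtain ⟨c, hc, ec⟩ := eqvT_spec xodd_ok.1
    have hW1 : (oddW.map A).prod = c • (1 : M12) := by
      rw [hwA, wU_val anti_below.2.2, ec, decT_one]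
    have h := pm_prod (x := (x : M12)) (A := A) (s := fun _ => s 0) (w := oddW) fun a _ => h0 (Fin.ofNat 5 a)
    rw [hW1, mul_smul_comm, mul_one, smul_mul_assoc, one_mul, prod_const (c := s 0) (fun _ => rfl),
      smul_comm] at h
    have h17 : s 0 ^ 17 = 1 := by
      refine smul_unit_eq (u := x) ?_
      have := congrArg (c • ·) h
      simp only [smul_smul] at this
      rw [show oddW.length = 17 from rfl, hc, one_smul,
        show c * (c * s 0 ^ 17) = c * c * s 0 ^ 17 by ring, hc, one_mul] at this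
      exact this
    rw [show 17 = 2 * 8 + 1 by norm_num, pow_succ, pow_mul, sq, hs, one_pow, one_mul] at h17
    exact h17
  refine Units.ext ?_
  rw [Units.val_mul, Units.val_mul, h0, h1, one_smul]

/-- The projection. -/
def phi : ↥PH →* ↥HJ :=
  ((MonoidHom.snd G12 G24).comp PH.subtype).codRestrict HJ fun x => by
    have : PH.map (MonoidHom.snd G12 G24) = HJ := by
      rw [PH, MonoidHom.map_closure, ← Set.range_comp]; rfl
    exact this ▸ Subgroup.mem_map_of_mem _ x.2

theorem phi_pW (w : List ℕ) : phi (pW w) = hW w := Subtype.ext (congrArg Prod.snd (pW_val w))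

theorem phi_surjective : Function.Surjective phi := by
  rw [← MonoidHom.range_eq_top, eq_top_iff, ← hx_closure, Subgroup.closure_le]
  rintro _ ⟨k, rfl⟩
  exact ⟨⟨pg k, Subgroup.subset_closure ⟨k, rfl⟩⟩, rfl⟩

theorem ker_phi {p : ↥PH} (hp : p ∈ phi.ker) : (p : G12 × G24) ∈ Subgroup.zpowers zz := by
  haveI : Finite G24 := Nat.finite_of_card_ne_zero (by rw [g24_card]; norm_num)
  have hc : phi.ker ≤ Subgroup.center ↥PH := by
    intro a ha
    rw [← Subgroup.centralizer_univ, ← Subgroup.coe_top,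
      show (⊤ : Subgroup ↥PH) = Subgroup.closure (Set.range fun k => (⟨pg k, Subgroup.subset_closure ⟨k, rfl⟩⟩ : ↥PH))
        from Eq.symm (Subgroup.map_injective PH.subtype_injective (by
          rw [MonoidHom.map_closure, ← Set.range_comp, ← MonoidHom.range_eq_map, Subgroup.range_subtype]; rfl)),
      Subgroup.centralizer_closure, Subgroup.mem_centralizer_iff]
    rintro _ ⟨k, rfl⟩
    have h2 : (a : G12 × G24).2 = 1 := congrArg Subtype.val (MonoidHom.mem_ker.1 ha)
    have h1 := ker_central (x := (a : G12 × G24).1) (by rw [← h2]; exact a.2) k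
    refine Subtype.ext (Prod.ext h1.symm ?_)
    show hG k * (a : G12 × G24).2 = (a : G12 × G24).2 * hG k
    rw [h2, mul_one, one_mul]
  have h2 := card_ker_le_two phi_surjective hc PH_perfect
  let z : ↥PH := ⟨zz, zz_mem⟩
  have hz : z ∈ phi.ker := MonoidHom.mem_ker.2 (Subtype.ext rfl)
  have hcz : Nat.card (Subgroup.zpowers z) = 2 := by
    rw [Nat.card_zpowers]
    exact orderOf_eq_prime (by rw [sq]; exact Subtype.ext zz_sq) fun e => zz_ne (congrArg Subtype.val e)
  have heq := Subgroup.eq_of_le_of_card_ge (Subgroup.zpowers_le.2 hz) (by rw [hcz]; exact h2)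
  rw [← heq] at hp
  obtain ⟨n, rfl⟩ := Subgroup.mem_zpowers_iff.1 hp
  exact ⟨n, rfl⟩

/-- There is a stem extension with kernel of order two. -/
theorem exists_cover : ∃ (E : Subgroup (G12 × G24)) (σ : E →* G24),
    Cfsg.IsStemExtension σ ∧ Nat.card σ.ker = 2 := by
  have hZc : Subgroup.zpowers zz ≤ Subgroup.center (G12 × G24) :=
    Subgroup.zpowers_le.2 (Subgroup.mem_center_iff.2 zz_comm)
  haveI : (Subgroup.zpowers zz).Normal := ⟨fun n hn g => by
    rw [Subgroup.mem_center_iff.1 (hZc hn) g, mul_inv_cancel_right]; exact hn⟩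
  let q := QuotientGroup.mk' (Subgroup.zpowers zz)
  let π : (G12 × G24) ⧸ Subgroup.zpowers zz →* G24 :=
    QuotientGroup.lift _ (MonoidHom.snd G12 G24) (Subgroup.zpowers_le.2 (MonoidHom.mem_ker.2 rfl))
  have qz : q zz = 1 := (QuotientGroup.eq_one_iff _).2 (Subgroup.mem_zpowers zz)
  have qeq : ∀ {u v : G12} {g h : G24}, Pm (u : M12) (v : M12) → g = h → q (u, g) = q (v, h) := by
    rintro u v g h hp rfl
    rcases unit_cases hp with rfl | rfl
    · rfl
    · rw [show (-v, g) = zz * (v, g) from Prod.ext (neg_one_mul v).symm (one_mul g).symm, map_mul, qz, one_mul]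
  let eta : ↥HJ →* (G12 × G24) ⧸ Subgroup.zpowers zz := phi.liftOfSurjective phi_surjective
    ⟨q.comp PH.subtype, fun x hx => MonoidHom.mem_ker.2 ((QuotientGroup.eq_one_iff _).2 (ker_phi hx))⟩
  have hetax : ∀ x : ↥PH, eta (phi x) = q x := fun x => MonoidHom.liftOfRightInverse_comp_apply _ _ _ _ x
  have heta : ∀ w, eta (hW w) = q (wU w, (hW w : G24)) := fun w =>
    (congrArg eta (phi_pW w)).symm.trans ((hetax (pW w)).trans (congrArg q (pW_val w)))
  have hpi : ∀ h, π (eta h) = (h : G24) := fun h => by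
    obtain ⟨x, rfl⟩ := phi_surjective h
    rw [hetax]
    rfl
  have hbb : q (bU, bG) * q (bU, bG) = 1 := by
    rw [← map_mul, ← map_one q]
    exact congrArg q (Prod.ext (Units.ext bU.val_inv) bG_sq)
  have hval : ∀ {w}, below 5 w = true → ((wU w : G12) : M12) = decT (evT w) := fun h => wU_val h
  let R : Rel ((G12 × G24) ⧸ Subgroup.zpowers zz) :=
    { eta := eta
      pi := π
      bb := q (bU, bG)
      pi_eta := hpi
      pi_bb := rfl
      bb_sq := hbb
      braid := by
        rw [yE, heta, ← map_mul, ← map_mul, ← map_mul, ← map_mul]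
        refine qeq (u := bU * wU yW * bU) (v := wU yW * bU * wU yW) ?_ braidG
        simp only [Units.val_mul, hval yW_below]
        show Pm (decT bN * _ * decT bN) (_ * decT bN * _)
        rw [← decT_mul, ← decT_mul, ← decT_mul, ← decT_mul]
        exact eqvT_spec xrel_ok.1
      kconj := fun j => by
        rw [kgE, kpE, heta, heta, ← map_mul, ← map_mul]
        refine qeq (u := bU * wU (kgW.getD j.val []) * bU) (v := wU (kpW.getD j.val [])) ?_ (by
          have h := kgen j
          rwa [inv_eq_of_mul_eq_one_right bG_sq] at h)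
        simp only [Units.val_mul, hval (below_get kg_below _), hval (below_get kp_below _)]
        obtain ⟨t, ht, e⟩ := eqvT_spec (xrel_ok.2.1 j)
        rw [decT_mul, decT_mul] at e
        refine ⟨t, ht, ?_⟩
        show decT bN * _ * decT bN = _
        rw [e, smul_mul_assoc, mul_assoc, show decT bN * decT bN = 1 from bU.val_inv, mul_one]
      lconj := fun j => by
        rw [lgE, lzE, heta, heta, heta, ← map_mul, ← map_mul, ← map_mul, ← map_mul]
        refine qeq (u := wU (lgW.getD j.val []) * (bU * wU r4W * bU))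
          (v := bU * wU r4W * bU * wU (lzW.getD j.val [])) ?_ ?_
        · simp only [Units.val_mul, hval (below_get lg_below _), hval (below_get lz_below _), hval r4W_below]
          show Pm (_ * (decT bN * _ * decT bN)) (decT bN * _ * decT bN * _)
          rw [← decT_mul, ← decT_mul, ← decT_mul, ← decT_mul]
          exact eqvT_spec (xrel_ok.2.2 j)
        · show (lgE j : G24) * cG = cG * (lzE j : G24)
          rw [← lgen j, inv_inv]
          group }
  let E : Subgroup (G12 × G24) := R.gen.comap q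
  let σ : E →* G24 := (MonoidHom.snd G12 G24).comp E.subtype
  have hker : σ.ker = (Subgroup.zpowers zz).subgroupOf E := by
    ext e
    rw [MonoidHom.mem_ker, Subgroup.mem_subgroupOf]
    refine ⟨fun h => (QuotientGroup.eq_one_iff (e : G12 × G24)).1 (R.eq_one_of_mem e.2 h), fun h => ?_⟩
    obtain ⟨n, hn⟩ := Subgroup.mem_zpowers_iff.1 h
    show (e : G12 × G24).2 = 1
    rw [← hn]
    simp [zz]
  have hPE : PH ≤ E := by
    intro x hx
    show q x ∈ R.gen
    rw [show q x = eta (phi ⟨x, hx⟩) from (hetax ⟨x, hx⟩).symm]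
    exact Subgroup.subset_closure (Set.mem_insert_of_mem _ ⟨_, rfl⟩)
  refine ⟨E, σ, ⟨?_, ?_, ?_⟩, ?_⟩
  · intro g
    obtain ⟨d, hd, rfl⟩ := (show g ∈ R.gen.map π by rw [show R.gen.map π = ⊤ from R.gen_map]; trivial)
    obtain ⟨x, rfl⟩ := QuotientGroup.mk'_surjective (Subgroup.zpowers zz) d
    exact ⟨⟨x, hd⟩, rfl⟩
  · intro e he
    rw [hker, Subgroup.mem_subgroupOf] at he
    exact Subgroup.mem_center_iff.2 fun g => Subtype.ext (Subgroup.mem_center_iff.1 (hZc he) g)
  · rw [hker]
    intro e he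
    obtain ⟨n, hn⟩ := Subgroup.mem_zpowers_iff.1 (Subgroup.mem_subgroupOf.1 he)
    have : e = ⁅(⟨_, hPE (pW antiU).2⟩ : E), ⟨_, hPE (pW antiV).2⟩⁆ ^ n :=
      Subtype.ext (hn.symm.trans (by rw [zz_comm_eq]; rfl))
    rw [this, commutator_def]
    exact Subgroup.zpow_mem _ (Subgroup.commutator_mem_commutator (Subgroup.mem_top _) (Subgroup.mem_top _)) n
  · rw [hker, Nat.card_congr (Subgroup.subgroupOfEquivOfLe
      (Subgroup.zpowers_le.2 (hPE zz_mem))).toEquiv, Nat.card_zpowers]
    exact orderOf_eq_prime (by rw [sq, zz_sq]) zz_ne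

/-- The multiplier of `G₂(4)` over the model field. -/
theorem multiplier_model : Cfsg.HasCyclicSchurMultiplier G24 2 := by
  haveI : Finite G24 := Nat.finite_of_card_ne_zero (by rw [g24_card]; norm_num)
  have h2 : Nat.card (Multiplicative (ZMod 2)) = 2 := by simp
  haveI : Fact (Nat.Prime 2) := ⟨Nat.prime_two⟩
  refine ⟨?_, ?_⟩
  · obtain ⟨E, σ, hσ, hk⟩ := exists_cover
    exact ⟨E, inferInstance, inferInstance, σ, hσ, ⟨mulEquivOfPrimeCardEq (p := 2) hk h2⟩⟩
  · intro Γ _ _ σ hσ
    have hle := card_ker_le σ hσ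
    have hpos : 0 < Nat.card σ.ker := Nat.card_pos
    interval_cases hc : Nat.card σ.ker
    · haveI := (Nat.card_eq_one_iff_unique.1 hc).1
      exact ⟨1, fun k => ⟨1, Subsingleton.elim _ _⟩⟩
    · exact ⟨(mulEquivOfPrimeCardEq (p := 2) h2 hc).toMonoidHom, MulEquiv.surjective _⟩


end H57.G24M
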