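import Cfsg.Agent.H26.SchurBasic

/-! The multiplier along an isomorphism between groups in two universes. -/

set_option autoImplicit false

universe u v w

namespace H57.G24M

open H26

/-- The multiplier transfers along an isomorphism into any universe. -/
theorem multiplier_congr {G : Type u} {H : Type v} [Group G] [Group H] [Finite G] (e : G ≃* H)
    {A : Type w} [CommGroup A] (h : Cfsg.HasSchurMultiplier G A) : Cfsg.HasSchurMultiplier H A := by
  haveI : Finite H := Finite.of_equiv _ e.toEquiv
  obtain ⟨eA⟩ := hasSchurMultiplier_iff.1 h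
  let f : FreeGroup G →* G := stdPres G
  let f' : FreeGroup G →* H := e.toMonoidHom.comp f
  have hk : f.ker = f'.ker := by
    ext x
    simp [f', MonoidHom.mem_ker]
  let E : CE f ≃* CE f' := QuotientGroup.quotientMulEquivOfEq
    (show ⁅f.ker, (⊤ : Subgroup (FreeGroup G))⁆ = ⁅f'.ker, ⊤⁆ by rw [hk])
  have hpi : ∀ x, cePi f' (E x) = e (cePi f x) := by
    intro x
    obtain ⟨y, rfl⟩ := QuotientGroup.mk_surjective x
    rfl
  have hmap : (schurM f).map E.toMonoidHom = schurM f' := by
    have hc : (commutator (CE f)).map E.toMonoidHom = commutator (CE f') := by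
      rw [commutator_def, Subgroup.map_commutator, Subgroup.map_top_of_surjective E.toMonoidHom E.surjective,
        ← commutator_def]
    ext y
    obtain ⟨x, rfl⟩ := E.surjective y
    rw [Subgroup.mem_map_equiv, E.symm_apply_apply, schurM, schurM, kerComm, kerComm, Subgroup.mem_inf,
      Subgroup.mem_inf, MonoidHom.mem_ker, MonoidHom.mem_ker, hpi, MulEquiv.map_eq_one_iff, ← hc,
      Subgroup.mem_map_equiv, E.symm_apply_apply]
  exact (hasSchurMultiplier_of_equiv_schurM (f := f') (e.surjective.comp (stdPres_surjective G))).2
    ⟨eA.trans ((E.subgroupMap (schurM f)).trans (MulEquiv.subgroupCongr hmap))⟩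

end H57.G24M
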