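import Cfsg.Agent.H57.GTwoMult.Cover
import Cfsg.Agent.H57.GTwoMult.Transfer
import Cfsg.Agent.H52.B2Two

/-! The multiplier of `G₂(4)` is cyclic of order two. -/

set_option autoImplicit false

noncomputable section

namespace H57.G24M

open H35.G24 H57.G24J Cfsg Cfsg.Lie

theorem multiplier {F : Type*} [Field F] [Fintype F] (hF : Fintype.card F = 4) :
    Cfsg.HasCyclicSchurMultiplier ↥(chevG2.group F) 2 := by
  haveI : Finite G24 := Nat.finite_of_card_ne_zero (by rw [g24_card]; norm_num)
  obtain ⟨e⟩ := H52.exists_group_congr chevG2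
    (FiniteField.ringEquivOfCardEq (K := K4) (K' := F) (by rw [K4.card_eq, hF]))
  exact multiplier_congr e multiplier_model

end H57.G24M
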