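import Cfsg.Agent.H57.GTwoMult.Closure
import Cfsg.Agent.H26.J2Schur
import Cfsg.Agent.H91.J2Simple
import Cfsg.Agent.H39.PSL2Multiplier

/-! Every stem extension of `G₂(4)` has kernel of order at most two. -/

set_option autoImplicit false
set_option maxRecDepth 20000

noncomputable section

namespace H57.G24M

open H35.G24 H57.G24J Cfsg
open scoped commutatorElement

theorem commutator_central {G : Type*} [Group G] {a b k l : G} (hk : ∀ g, g * k = k * g) (hl : ∀ g, g * l = l * g) :
    ⁅a * k, b * l⁆ = ⁅a, b⁆ := by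
  have hk' : ∀ g, g * k⁻¹ = k⁻¹ * g := fun g => (Commute.inv_right (hk g)).eq
  simp only [commutatorElement_def, mul_inv_rev]
  calc a * k * (b * l) * (k⁻¹ * a⁻¹) * (l⁻¹ * b⁻¹)
      = a * (k * (b * l)) * k⁻¹ * a⁻¹ * (l⁻¹ * b⁻¹) := by group
    _ = a * b * (l * a⁻¹) * l⁻¹ * b⁻¹ := by rw [← hk (b * l)]; group
    _ = a * b * a⁻¹ * b⁻¹ := by rw [← hl a⁻¹]; group

theorem commutator_HJ : commutator ↥HJ = ⊤ := by
  obtain ⟨e⟩ := isoJ2_HJ
  haveI := H91.J2A.J2_isSimple
  obtain ⟨a, b, hab⟩ := H91.J2A.J2_noncomm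
  have hJ : commutator Cfsg.Spor.J2 = ⊤ := by
    rcases (inferInstance : (commutator Cfsg.Spor.J2).Normal).eq_bot_or_eq_top with h | h
    · refine absurd ?_ hab
      exact (commutatorElement_eq_one_iff_commute.1 ((Subgroup.eq_bot_iff_forall _).1 h ⁅a, b⁆
        (Subgroup.commutator_mem_commutator (Subgroup.mem_top a) (Subgroup.mem_top b)))).eq
    · exact h
  apply Subgroup.map_injective (f := e.toMonoidHom) e.injective
  rw [commutator_def, Subgroup.map_commutator, Subgroup.map_top_of_surjective e.toMonoidHom e.surjective,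
    ← commutator_def]
  exact hJ

theorem multiplier_HJ : Cfsg.HasCyclicSchurMultiplier ↥HJ 2 := by
  obtain ⟨e⟩ := isoJ2_HJ
  exact H39.hasSchurMultiplier_congr e.symm H26.J2Schur.hasCyclicSchurMultiplier_J2

/-- A perfect central extension of the subgroup has kernel of order at most two. -/
theorem card_ker_le_two {A : Type} [Group A] [Finite A] {φ : A →* ↥HJ} (hs : Function.Surjective φ)
    (hc : φ.ker ≤ Subgroup.center A) (hp : commutator A = ⊤) : Nat.card φ.ker ≤ 2 := by
  obtain ⟨π, hπ⟩ := multiplier_HJ.2 A φ ⟨hs, hc, hp ▸ le_top⟩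
  exact (Nat.card_le_card_of_surjective π hπ).trans (by simp)

variable {Γ : Type} [Group Γ] (σ : Γ →* G24)

/-- The derived subgroup of the preimage of the subgroup. -/
def hatA : Subgroup Γ := ⁅HJ.comap σ, HJ.comap σ⁆

theorem map_hatA (hs : Function.Surjective σ) : (hatA σ).map σ = HJ := by
  rw [hatA, Subgroup.map_commutator, Subgroup.map_comap_eq_self_of_surjective hs]
  have := congrArg (Subgroup.map HJ.subtype) commutator_HJ
  rwa [commutator_def, Subgroup.map_commutator, ← MonoidHom.range_eq_map, Subgroup.range_subtype] at this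

theorem hatA_perfect (hs : Function.Surjective σ) (hc : σ.ker ≤ Subgroup.center Γ) :
    commutator ↥(hatA σ) = ⊤ := by
  apply Subgroup.map_injective (f := (hatA σ).subtype) Subtype.coe_injective
  rw [commutator_def, Subgroup.map_commutator, ← MonoidHom.range_eq_map, Subgroup.range_subtype]
  refine le_antisymm (Subgroup.commutator_le.2 fun a ha b hb => ?_) ?_
  · exact mul_mem (mul_mem (mul_mem ha hb) (inv_mem ha)) (inv_mem hb)
  · conv_lhs => rw [hatA]
    rw [Subgroup.commutator_le]
    intro a ha b hb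
    have dec : ∀ x ∈ HJ.comap σ, ∃ y ∈ hatA σ, ∃ k, (∀ g : Γ, g * k = k * g) ∧ x = y * k := by
      intro x hx
      obtain ⟨y, hy, he⟩ := (show σ x ∈ (hatA σ).map σ by rw [map_hatA σ hs]; exact hx)
      refine ⟨y, hy, y⁻¹ * x, fun g => Subgroup.mem_center_iff.1 (hc ?_) g, (mul_inv_cancel_left y x).symm⟩
      rw [MonoidHom.mem_ker, map_mul, map_inv, he, inv_mul_cancel]
    obtain ⟨y, hy, k, hk, rfl⟩ := dec a ha
    obtain ⟨z, hz, l, hl, rfl⟩ := dec b hb
    rw [commutator_central hk hl]
    exact Subgroup.commutator_mem_commutator hy hz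

/-- The projection of the derived subgroup of the preimage. -/
def hatHom (hs : Function.Surjective σ) : ↥(hatA σ) →* ↥HJ :=
  (σ.comp (hatA σ).subtype).codRestrict HJ fun x => map_hatA σ hs ▸ Subgroup.mem_map_of_mem σ x.2

theorem hatHom_surjective (hs : Function.Surjective σ) : Function.Surjective (hatHom σ hs) := by
  rintro ⟨g, hg⟩
  obtain ⟨x, hx, rfl⟩ := (map_hatA σ hs).symm ▸ hg
  exact ⟨⟨x, hx⟩, rfl⟩

theorem card_inf_le [Finite Γ] (hs : Function.Surjective σ) (hc : σ.ker ≤ Subgroup.center Γ) :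
    Nat.card ↥(σ.ker ⊓ hatA σ) ≤ 2 := by
  have hk : (hatHom σ hs).ker = σ.ker.subgroupOf (hatA σ) := by
    ext x
    rw [MonoidHom.mem_ker, Subgroup.mem_subgroupOf, MonoidHom.mem_ker]
    exact Subtype.ext_iff
  have h := card_ker_le_two (hatHom_surjective σ hs) (fun x hx => Subgroup.mem_center_iff.2 fun g => Subtype.ext
    (Subgroup.mem_center_iff.1 (hc (Subgroup.mem_subgroupOf.1 (hk ▸ hx))) g)) (hatA_perfect σ hs hc)
  refine le_of_eq_of_le ?_ h
  rw [hk, ← Subgroup.inf_subgroupOf_right, Nat.card_congr (Subgroup.subgroupOfEquivOfLe inf_le_right).toEquiv]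

section Lift

variable {N : Type} [Group N] {p : N →* G24} {eta : ↥HJ →* N}

theorem conj_exact (hc : p.ker ≤ Subgroup.center N) (he : ∀ h, p (eta h) = (h : G24)) {w : N} {T : G24}
    (hw : p w = T) {x y U V U' V' : ↥HJ} (hx : x = ⁅U, V⁆) (hU : T * (U : G24) * T⁻¹ = U')
    (hV : T * (V : G24) * T⁻¹ = V') (hy : T * (x : G24) * T⁻¹ = y) :
    w * eta x * w⁻¹ = eta y := by
  have key : ∀ {A A' : ↥HJ}, T * (A : G24) * T⁻¹ = A' →
      ∃ k, (∀ g, g * k = k * g) ∧ w * eta A * w⁻¹ = eta A' * k := by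
    intro A A' h
    refine ⟨(eta A')⁻¹ * (w * eta A * w⁻¹), fun g => Subgroup.mem_center_iff.1 (hc ?_) g,
      (mul_inv_cancel_left _ _).symm⟩
    rw [MonoidHom.mem_ker, map_mul, map_inv, map_mul, map_mul, map_inv, hw, he, he, h, inv_mul_cancel]
  obtain ⟨k, hk, e1⟩ := key hU
  obtain ⟨l, hl, e2⟩ := key hV
  have hyc : y = ⁅U', V'⁆ := by
    apply Subtype.ext
    show (y : G24) = ⁅(U' : G24), (V' : G24)⁆
    rw [← hy, ← hU, ← hV, hx, show ((⁅U, V⁆ : ↥HJ) : G24) = ⁅(U : G24), (V : G24)⁆ from rfl]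
    simp only [commutatorElement_def]
    group
  have hconj : w * ⁅eta U, eta V⁆ * w⁻¹ = ⁅w * eta U * w⁻¹, w * eta V * w⁻¹⁆ := by
    simp only [commutatorElement_def]
    group
  rw [hyc, hx, map_commutatorElement, map_commutatorElement, hconj, e1, e2, commutator_central hk hl]

theorem exists_braid (hs : Function.Surjective p) (hc : p.ker ≤ Subgroup.center N)
    (he : ∀ h, p (eta h) = (h : G24)) :
    ∃ b : N, p b = bG ∧ b * b = 1 ∧ b * eta yE * b = eta yE * b * eta yE := by
  obtain ⟨x, hx⟩ := hs bG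
  set y := eta yE with hy
  have hyy : y * y = 1 := by rw [hy, ← map_mul, yE_sq, map_one]
  set u := y * x * y * (y * x)⁻¹ with hu
  have huu : u * u = 1 := by
    rw [hu, show y * x * y * (y * x)⁻¹ * (y * x * y * (y * x)⁻¹) = y * x * (y * y) * (y * x)⁻¹ from by group, hyy]
    group
  have hpu : p u = bG := by
    rw [hu, map_mul, map_mul, map_mul, map_inv, map_mul, hx, hy, he]
    have hY : (yE : G24) * (yE : G24) = 1 := by rw [← Subgroup.coe_mul, yE_sq, OneMemClass.coe_one]
    rw [mul_inv_rev, inv_eq_of_mul_eq_one_right bG_sq, inv_eq_of_mul_eq_one_right hY]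
    calc (yE : G24) * bG * yE * (bG * yE) = yE * (bG * yE * bG) * yE := by group
      _ = (yE : G24) * yE * bG * (yE * yE) := by rw [braidG]; group
      _ = bG := by rw [hY, one_mul, mul_one]
  set k := u * y * u * (y * u * y)⁻¹ with hk
  have hkc : ∀ g, g * k = k * g := fun g => Subgroup.mem_center_iff.1 (hc (by
    rw [hk, MonoidHom.mem_ker]
    simp only [map_mul, map_inv, hpu, hy, he]
    rw [braidG, mul_inv_cancel])) g
  have hyu : y * u * y * (y * u * y) = 1 := by
    rw [show y * u * y * (y * u * y) = y * u * (y * y) * u * y from by group, hyy, mul_one,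
      show y * u * u * y = y * (u * u) * y from by group, huu, mul_one, hyy]
  have e : u * y * u = k * (y * u * y) := by rw [hk, inv_mul_cancel_right]
  have hk2 : k * k = 1 := by
    have h2 : u * y * u * (u * y * u) = 1 := by
      rw [show u * y * u * (u * y * u) = u * y * (u * u) * y * u from by group, huu, mul_one,
        show u * y * y * u = u * (y * y) * u from by group, hyy, mul_one, huu]
    rw [e, show k * (y * u * y) * (k * (y * u * y)) = k * (y * u * y * k) * (y * u * y) from by group,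
      hkc, show k * (k * (y * u * y)) * (y * u * y) = k * k * (y * u * y * (y * u * y)) from by group,
      hyu, mul_one] at h2
    exact h2
  refine ⟨k * u, ?_, ?_, ?_⟩
  · rw [map_mul, hpu]
    have : p k = 1 := by
      rw [hk]
      simp only [map_mul, map_inv, hpu, hy, he]
      rw [braidG, mul_inv_cancel]
    rw [this, one_mul]
  · rw [show k * u * (k * u) = k * (u * k) * u from by group, hkc, show k * (k * u) * u = k * k * (u * u) from by
      group, hk2, huu, one_mul]
  · rw [show k * u * y * (k * u) = k * (u * y * k) * u from by group, hkc,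
      show k * (k * (u * y)) * u = k * k * (u * y * u) from by group, hk2, one_mul, e,
      show y * (k * u) * y = y * k * (u * y) from by group, hkc y]
    group

end Lift

theorem card_ker_le [Finite Γ] (hσ : Cfsg.IsStemExtension σ) : Nat.card σ.ker ≤ 2 := by
  obtain ⟨hs, hc, hstem⟩ := hσ
  let Z : Subgroup Γ := σ.ker ⊓ hatA σ
  haveI : Z.Normal := ⟨fun n hn g => by
    rw [Subgroup.mem_center_iff.1 (hc hn.1) g, mul_inv_cancel_right]; exact hn⟩
  let q := QuotientGroup.mk' Z
  let p : Γ ⧸ Z →* G24 := QuotientGroup.lift Z σ inf_le_left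
  have hpq : ∀ x, p (q x) = σ x := fun _ => rfl
  have hps : Function.Surjective p := fun g => by
    obtain ⟨x, rfl⟩ := hs g; exact ⟨q x, rfl⟩
  have hpc : p.ker ≤ Subgroup.center (Γ ⧸ Z) := by
    intro n hn
    obtain ⟨x, rfl⟩ := QuotientGroup.mk'_surjective Z n
    rw [Subgroup.mem_center_iff]
    intro g
    obtain ⟨y, rfl⟩ := QuotientGroup.mk'_surjective Z g
    show q y * q x = q x * q y
    rw [← map_mul, ← map_mul, Subgroup.mem_center_iff.1 (hc (show x ∈ σ.ker from MonoidHom.mem_ker.2 hn)) y]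
  let eta : ↥HJ →* Γ ⧸ Z := (hatHom σ hs).liftOfSurjective (hatHom_surjective σ hs)
    ⟨q.comp (hatA σ).subtype, fun x hx => MonoidHom.mem_ker.2 ((QuotientGroup.eq_one_iff _).2
      ⟨MonoidHom.mem_ker.2 (congrArg Subtype.val (MonoidHom.mem_ker.1 hx)), x.2⟩)⟩
  have heta : ∀ x, eta (hatHom σ hs x) = q x := fun x =>
    MonoidHom.liftOfRightInverse_comp_apply _ _ _ _ x
  have he : ∀ h, p (eta h) = (h : G24) := fun h => by
    obtain ⟨x, rfl⟩ := hatHom_surjective σ hs h
    rw [heta, hpq]; rfl
  obtain ⟨b, hb, hbb, hbr⟩ := exists_braid hps hpc he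
  have hbi : b⁻¹ = b := inv_eq_of_mul_eq_one_right hbb
  let R : Rel (Γ ⧸ Z) :=
    { eta := eta
      pi := p
      bb := b
      pi_eta := he
      pi_bb := hb
      bb_sq := hbb
      braid := hbr
      kconj := fun j => by
        obtain ⟨U, V, U', V', hx, hU, hV⟩ := kg_comm j
        have := conj_exact hpc he hb hx hU hV (kgen j)
        rwa [hbi] at this
      lconj := fun j => by
        obtain ⟨U, V, U', V', hx, hU, hV⟩ := lg_comm j
        set c := b * eta (hW r4W) * b
        have hcp : p c⁻¹ = cG⁻¹ := by rw [map_inv, map_mul, map_mul, hb, he, cG]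
        have := conj_exact hpc he hcp hx hU hV (lgen j)
        rw [← this]
        group }
  have hdec : ∀ n : Γ ⧸ Z, ∃ m ∈ R.gen, ∃ k, (∀ g, g * k = k * g) ∧ n = m * k := by
    intro n
    obtain ⟨m, hm, e⟩ := (show p n ∈ R.gen.map p by rw [show R.gen.map p = ⊤ from R.gen_map]; trivial)
    refine ⟨m, hm, m⁻¹ * n, fun g => Subgroup.mem_center_iff.1 (hpc ?_) g, (mul_inv_cancel_left m n).symm⟩
    rw [MonoidHom.mem_ker, map_mul, map_inv, e, inv_mul_cancel]
  have hcomm : commutator (Γ ⧸ Z) ≤ R.gen := by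
    rw [commutator_def, Subgroup.commutator_le]
    intro a _ c _
    obtain ⟨m, hm, k, hk, rfl⟩ := hdec a
    obtain ⟨m', hm', l, hl, rfl⟩ := hdec c
    rw [commutator_central hk hl, commutatorElement_def]
    exact mul_mem (mul_mem (mul_mem hm hm') (inv_mem hm)) (inv_mem hm')
  refine le_trans (Subgroup.card_le_of_le ?_) (card_inf_le σ hs hc)
  intro z hz
  have hqz : q z ∈ R.gen := hcomm (by
    have := Subgroup.mem_map_of_mem q (hstem hz)
    rw [commutator_def, Subgroup.map_commutator] at this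
    exact Subgroup.commutator_mono le_top le_top this)
  exact (QuotientGroup.eq_one_iff z).1 (R.eq_one_of_mem hqz (MonoidHom.mem_ker.1 hz))

end H57.G24M
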